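import Groth.Agent.An.H880.Fam
import Mathlib.Topology.Covering.Basic
import Mathlib.Algebra.MvPolynomial.Equiv

/-!
# The core statement: finite coverings of the complement of a hypersurface in `ℂⁿ` are algebraic over
a smaller complement; notations for its proof
-/

set_option autoImplicit false

namespace Groth.Agent.An.H880.CoreDef

open MvPolynomial Groth.Agent.An.H880.Fam

/-- **Core statement.** Every finite covering of `{q ≠ 0} ⊆ ℂⁿ` is, over a smaller `{q' ≠ 0}`, the space
of roots of a monic polynomial `f` with separable fibres. -/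
def Core (n : ℕ) : Prop :=
  ∀ (q : MvPolynomial (Fin n) ℂ) (_ : q ≠ 0) (E : Type) [TopologicalSpace E]
    (p : E → (Fin n → ℂ)) (_ : IsCoveringMapOn p {x | eval x q ≠ 0}) (_ : ∀ e, eval (p e) q ≠ 0)
    (hfin : ∀ x, (p ⁻¹' {x}).Finite),
    ∃ (q' : MvPolynomial (Fin n) ℂ) (f : Polynomial (MvPolynomial (Fin n) ℂ)) (F : E → ℂ),
      q' ≠ 0 ∧ q ∣ q' ∧ f.Monic ∧ ContinuousOn F {e | eval (p e) q' ≠ 0} ∧
      ∀ x, eval x q' ≠ 0 → (f.map (eval x)).Separable ∧
        f.map (eval x) = ∏ e ∈ (hfin x).toFinset, (Polynomial.X - Polynomial.C (F e))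

/-- `(b, c)` is good: the restriction of the covering to the line over `b` has a continuous function
with values in the roots of `f_c`, with prescribed values over `z = z₀`. -/
def Good {E : Type} [TopologicalSpace E] {n : ℕ} (p : E → (Fin (n + 1) → ℂ)) (z₀ : ℂ) (s : E → ℂ)
    (m N : ℕ) (b : Fin n → ℂ) (c : Fin (m * (N + 1)) → ℂ) : Prop :=
  ∃ F : E → ℂ, ContinuousOn F {e | Fin.tail (p e) = b} ∧
    (∀ e, Fin.tail (p e) = b →
      ((fam m N c).map (Polynomial.evalRingHom (p e 0))).eval (F e) = 0) ∧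
    ∀ e, Fin.tail (p e) = b → p e 0 = z₀ → F e = s e

end Groth.Agent.An.H880.CoreDef
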