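import Groth.Agent.An.H880.CoreDef
import Groth.Agent.An.H869.Growth
import Mathlib.FieldTheory.IsAlgClosed.Basic
import Mathlib.Analysis.Complex.Polynomial.Basic
import Mathlib.Topology.Baire.CompleteMetrizable
import Mathlib.Topology.Baire.Lemmas

/-!
# Avoiding countably many hypersurfaces; resultants
-/

set_option autoImplicit false

namespace Groth.Agent.An.H880.Avoid

open MvPolynomial Groth.Agent.An.H880.Fam Groth.Agent.An.H880.CoreDef

theorem exists_forall_ne_zero (n : ℕ) (h : ℕ → MvPolynomial (Fin n) ℂ) (hh : ∀ N, h N ≠ 0) :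
    ∃ b : Fin n → ℂ, ∀ N, eval b (h N) ≠ 0 := by
  have h1 : Dense (⋂ N, {z : Fin n → ℂ | eval z (h N) ≠ 0}) :=
    dense_iInter_of_isOpen (fun N => H869.Growth.isOpen_ne_zero (h N))
      (fun N => H869.Growth.dense_ne_zero (h N) (hh N))
  obtain ⟨b, hb⟩ := h1.nonempty
  exact ⟨b, fun N => Set.mem_iInter.1 hb N⟩

/-- For some `N`, the projection of the good locus is Zariski dense. -/
theorem exists_N {E : Type} [TopologicalSpace E] {n : ℕ} (p : E → (Fin (n + 1) → ℂ)) (z₀ : ℂ)
    (s : E → ℂ) (m : ℕ) (q₁ : MvPolynomial (Fin n) ℂ) (hq₁ : q₁ ≠ 0)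
    (hgood : ∀ b, eval b q₁ ≠ 0 → ∃ (N : ℕ) (c : Fin (m * (N + 1)) → ℂ), Good p z₀ s m N b c) :
    ∃ N : ℕ, ∀ h : MvPolynomial (Fin n) ℂ,
      (∀ x ∈ {x : (Fin n → ℂ) × (Fin (m * (N + 1)) → ℂ) | eval x.1 q₁ ≠ 0 ∧
        Good p z₀ s m N x.1 x.2}, eval x.1 h = 0) → h = 0 := by
  by_contra hcon
  push Not at hcon
  choose h hh hh0 using hcon
  obtain ⟨b, hb⟩ := exists_forall_ne_zero n (fun N => q₁ * h N) (fun N => mul_ne_zero hq₁ (hh0 N))
  have hb1 : eval b q₁ ≠ 0 := by
    have := hb 0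
    rw [map_mul] at this
    exact left_ne_zero_of_mul this
  obtain ⟨N, c, hc⟩ := hgood b hb1
  have h2 := hb N
  rw [map_mul] at h2
  exact right_ne_zero_of_mul h2 (hh N (b, c) ⟨hb1, hc⟩)

/-- resultants detect common roots after specialisation -/
lemma resultant_ne_zero_iff {S : Type*} [CommRing S] (φ : S →+* ℂ) (f g : Polynomial S)
    (hf : f.Monic) : φ (Polynomial.resultant f g f.natDegree g.natDegree) ≠ 0 ↔
      ∀ θ, (f.map φ).eval θ = 0 → (g.map φ).eval θ ≠ 0 := by
  have hm : (f.map φ).Monic := hf.map φ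
  have hd : (f.map φ).natDegree = f.natDegree := hf.natDegree_map φ
  have h1 : φ (Polynomial.resultant f g f.natDegree g.natDegree) =
      Polynomial.resultant (f.map φ) (g.map φ) := by
    rw [← Polynomial.resultant_map_map]
    obtain ⟨k, hk⟩ := Nat.exists_eq_add_of_le (Polynomial.natDegree_map_le (p := g) (f := φ))
    have h3 := Polynomial.resultant_add_right_deg (f.map φ) (g.map φ) f.natDegree _ k le_rfl
    rw [← hk] at h3
    rw [h3, hd, ← hd, Polynomial.coeff_natDegree, hm.leadingCoeff, one_pow, one_mul]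
  rw [h1, ← isUnit_iff_ne_zero, Polynomial.isUnit_resultant_iff_isCoprime hm]
  constructor
  · rintro ⟨u, v, huv⟩ θ h0 h0'
    have := congrArg (Polynomial.eval θ) huv
    simp [h0, h0'] at this
  · intro h
    refine (Polynomial.isCoprime_iff_aeval_ne_zero_of_isAlgClosed ℂ ℂ _ _).2 fun θ => ?_
    by_cases h0 : (f.map φ).eval θ = 0
    · right
      simpa using h θ h0
    · left
      simpa using h0

end Groth.Agent.An.H880.Avoid
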