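import Groth.Agent.An.H880.CoreMain
import Groth.Agent.An.H885.CoreOfH
import Groth.Agent.An.H520.Slice

/-!
# Riemann's existence theorem over affine space, generic form
-/

set_option autoImplicit false

namespace Groth.Agent.An.H880.Core

open Groth.Agent.An.H880.CoreDef Groth.Agent.An.H880.CoreMain

theorem stmtP5 : StmtP5 := fun n hn q hq E _ p hcov hpq hfin =>
  H520.Slice.exists_slice n hn q hq E p hcov hpq hfin

/-- Finite coverings of the complement of a hypersurface in affine space are algebraic over a smaller
open subset. -/
theorem core : ∀ n, Core n := core_of H885.CoreOfH.stmtP3 stmtP5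

theorem CORE : H870.CoreDef.CORE := CORE_of core

end Groth.Agent.An.H880.Core
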