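import Groth.Agent.An.H880.HData
import Groth.Agent.An.H870.CoreDef

/-!
# The induction for the core statement
-/

set_option autoImplicit false

namespace Groth.Agent.An.H880.CoreMain

open MvPolynomial Topology Set Groth.Agent.An.H880.Fam Groth.Agent.An.H880.CoreDef
open Groth.Agent.An.H869.LocalRoots (F continuous_F)

/-- the number of points of the fibres is constant on the lines `z ↦ (z, b)` -/
lemma ncard_line {n : ℕ} (q : MvPolynomial (Fin (n + 1)) ℂ) {E : Type} [TopologicalSpace E]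
    (p : E → (Fin (n + 1) → ℂ)) (hcov : IsCoveringMapOn p {x | eval x q ≠ 0}) (b : Fin n → ℂ)
    (z z' : ℂ) (hz : eval (Fin.cons z b : Fin (n + 1) → ℂ) q ≠ 0)
    (hz' : eval (Fin.cons z' b : Fin (n + 1) → ℂ) q ≠ 0) :
    (p ⁻¹' {Fin.cons z b}).ncard = (p ⁻¹' {Fin.cons z' b}).ncard := by
  refine Pull.ncard_fibre_eq hcov ?_
  let P : Polynomial ℂ := (finSuccEquiv ℂ n q).map (eval b)
  have hP : ∀ w : ℂ, P.eval w = eval (Fin.cons w b : Fin (n + 1) → ℂ) q := fun w =>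
    (eval_eq_eval_mv_eval' b w q).symm
  have hP0 : P ≠ 0 := by
    intro h
    apply hz
    rw [← hP, h, Polynomial.eval_zero]
  have h1 : IsPathConnected ({w : ℂ | P.eval w = 0})ᶜ := by
    refine Set.Countable.isPathConnected_compl_of_one_lt_rank (by
      rw [Complex.rank_real_complex]; norm_num) ?_
    exact (Polynomial.finite_setOfPred_isRoot hP0).countable
  have h2 : JoinedIn ({w : ℂ | P.eval w = 0})ᶜ z z' :=
    h1.joinedIn z (fun h => hz ((hP z).symm.trans h)) z' (fun h => hz' ((hP z').symm.trans h))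
  have h3 : Continuous fun w : ℂ => (Fin.cons w b : Fin (n + 1) → ℂ) := by
    refine continuous_pi fun i => ?_
    refine Fin.cases ?_ (fun j => ?_) i
    · simpa using continuous_id'
    · simpa using continuous_const
  have h4 := h2.map_continuousOn (f := fun w : ℂ => (Fin.cons w b : Fin (n + 1) → ℂ)) h3.continuousOn
  refine h4.mono ?_
  rintro _ ⟨w, hw, rfl⟩
  intro h
  exact hw ((hP w).trans h)

theorem core_zero : Core 0 := by
  classical
  intro q hq E _ p hcov hpq hfin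
  have hx : ∀ x y : Fin 0 → ℂ, x = y := fun x y => Subsingleton.elim x y
  let x₀ : Fin 0 → ℂ := fun i => i.elim0
  have huniv : p ⁻¹' {x₀} = Set.univ := by
    ext e
    simp [hx (p e) x₀]
  have hfinE : Finite E := by
    rw [← Set.finite_univ_iff, ← huniv]
    exact hfin x₀
  obtain ⟨k, ⟨eE⟩⟩ := Finite.exists_equiv_fin E
  let F : E → ℂ := fun e => ((eE e : ℕ) : ℂ)
  have hF : Function.Injective F := by
    intro e e' h
    have h1 : ((eE e : ℕ) : ℂ) = ((eE e' : ℕ) : ℂ) := h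
    exact eE.injective (Fin.ext (by exact_mod_cast h1))
  refine ⟨q, ∏ e ∈ (hfin x₀).toFinset, (Polynomial.X - Polynomial.C (C (F e))), F, hq, dvd_rfl,
    Polynomial.monic_prod_of_monic _ _ fun e _ => Polynomial.monic_X_sub_C _, ?_, ?_⟩
  · rw [continuousOn_iff_continuous_domRestrict]
    have h1 : {e | eval (p e) q ≠ 0} ⊆ p ⁻¹' {x₀} := fun e _ => hx _ _
    rcases isEmpty_or_nonempty E with hE | ⟨⟨e⟩⟩
    · exact continuous_of_const fun a => (hE.false a.1).elim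
    · have h2 := (hcov x₀ (by rw [mem_ofPred_eq, hx x₀ (p e)]; exact hpq e)).1
      have h3 : DiscreteTopology {e | eval (p e) q ≠ 0} := by
        have h4 : {e | eval (p e) q ≠ 0} = p ⁻¹' {x₀} :=
          Set.Subset.antisymm h1 fun e _ => hpq e
        rw [h4]
        exact h2
      exact continuous_of_discreteTopology
  · intro x _
    obtain rfl := hx x₀ x
    have h1 : (∏ e ∈ (hfin x₀).toFinset, (Polynomial.X - Polynomial.C (C (F e)))).map (eval x₀) =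
        ∏ e ∈ (hfin x₀).toFinset, (Polynomial.X - Polynomial.C (F e)) := by
      rw [Polynomial.map_prod]
      refine Finset.prod_congr rfl fun e _ => ?_
      rw [Polynomial.map_sub, Polynomial.map_X, Polynomial.map_C, eval_C]
    refine ⟨?_, h1⟩
    rw [h1, Polynomial.separable_prod_X_sub_C_iff']
    exact fun e _ e' _ h => hF h

/-- the statement of (P3) -/
def StmtP3 : Prop :=
  ∀ (n : ℕ) (q : MvPolynomial (Fin (n + 1)) ℂ) (_ : q ≠ 0) (E : Type)
    [TopologicalSpace E] (p : E → (Fin (n + 1) → ℂ))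
    (_ : IsCoveringMapOn p {x | eval x q ≠ 0}) (_ : ∀ e, eval (p e) q ≠ 0)
    (hfin : ∀ x, (p ⁻¹' {x}).Finite) (z₀ : ℂ) (m N : ℕ) (q₂ : MvPolynomial (Fin n) ℂ)
    (_ : q₂ ≠ 0) (_ : ∀ b, eval b q₂ ≠ 0 → eval (Fin.cons z₀ b : Fin (n + 1) → ℂ) q ≠ 0)
    (_ : ∀ b, eval b q₂ ≠ 0 → (hfin (Fin.cons z₀ b)).toFinset.card = m)
    (s : E → ℂ) (_ : ∀ b, eval b q₂ ≠ 0 → Set.InjOn s (p ⁻¹' {Fin.cons z₀ b}))
    (μ : Polynomial (MvPolynomial (Fin n) ℂ)) (_ : μ.Monic) (_ : μ.natDegree ≠ 0)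
    (_ : ∀ b, eval b q₂ ≠ 0 → (μ.map (eval b)).Separable)
    (q₃ : MvPolynomial (Fin (n + 1)) ℂ)
    (_ : ∀ b, eval b q₂ ≠ 0 → eval (Fin.cons z₀ b : Fin (n + 1) → ℂ) q₃ ≠ 0)
    (_ : ∀ x : Fin (n + 1) → ℂ, eval x q₃ ≠ 0 → eval (Fin.tail x) q₂ ≠ 0)
    (gc : Fin (m * (N + 1)) → Polynomial (MvPolynomial (Fin n) ℂ)) (ec : Fin (m * (N + 1)) → ℕ)
    (H : E × ℂ → ℂ)
    (_ : ContinuousOn H {w : E × ℂ | eval (p w.1) q₃ ≠ 0 ∧ F μ (Fin.tail (p w.1), w.2) = 0})
    (_ : ∀ w : E × ℂ, eval (p w.1) q₃ ≠ 0 → F μ (Fin.tail (p w.1), w.2) = 0 →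
      ((fam m N fun j => F (gc j) (Fin.tail (p w.1), w.2) / eval (Fin.tail (p w.1)) q₂ ^ ec j).map
        (Polynomial.evalRingHom (p w.1 0))).Separable)
    (_ : ∀ w : E × ℂ, eval (p w.1) q₃ ≠ 0 → F μ (Fin.tail (p w.1), w.2) = 0 →
      ((fam m N fun j => F (gc j) (Fin.tail (p w.1), w.2) / eval (Fin.tail (p w.1)) q₂ ^ ec j).map
        (Polynomial.evalRingHom (p w.1 0))).eval (H w) = 0)
    (_ : ∀ w : E × ℂ, eval (p w.1) q₃ ≠ 0 → F μ (Fin.tail (p w.1), w.2) = 0 →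
      p w.1 0 = z₀ → H w = s w.1),
    ∃ (q' : MvPolynomial (Fin (n + 1)) ℂ) (f : Polynomial (MvPolynomial (Fin (n + 1)) ℂ))
      (F : E → ℂ), q' ≠ 0 ∧ q ∣ q' ∧ f.Monic ∧ ContinuousOn F {e | eval (p e) q' ≠ 0} ∧
      ∀ x, eval x q' ≠ 0 → (f.map (eval x)).Separable ∧
        f.map (eval x) = ∏ e ∈ (hfin x).toFinset, (Polynomial.X - Polynomial.C (F e))

/-- the statement of (P5) -/
def StmtP5 : Prop :=
  ∀ (n : ℕ) (_ : Core n) (q : MvPolynomial (Fin (n + 1)) ℂ) (_ : q ≠ 0)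
    (E : Type) [TopologicalSpace E] (p : E → (Fin (n + 1) → ℂ))
    (_ : IsCoveringMapOn p {x | eval x q ≠ 0}) (_ : ∀ e, eval (p e) q ≠ 0)
    (hfin : ∀ x, (p ⁻¹' {x}).Finite),
    ∃ (z₀ : ℂ) (q₁ : MvPolynomial (Fin n) ℂ) (g : Polynomial (MvPolynomial (Fin n) ℂ))
      (s : E → ℂ), q₁ ≠ 0 ∧ g.Monic ∧
      (∀ b, eval b q₁ ≠ 0 → eval (Fin.cons z₀ b : Fin (n + 1) → ℂ) q ≠ 0) ∧
      ContinuousOn s {e | p e 0 = z₀ ∧ eval (Fin.tail (p e)) q₁ ≠ 0} ∧
      (∀ b, eval b q₁ ≠ 0 → (g.map (eval b)).Separable ∧ g.map (eval b) =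
        ∏ e ∈ (hfin (Fin.cons z₀ b)).toFinset, (Polynomial.X - Polynomial.C (s e))) ∧
      ∀ b, eval b q₁ ≠ 0 → ∃ (N : ℕ) (c : Fin (g.natDegree * (N + 1)) → ℂ),
        Good p z₀ s g.natDegree N b c

theorem core_succ (h3 : StmtP3) (h5 : StmtP5) (n : ℕ) (hn : Core n) : Core (n + 1) := by
  classical
  intro q hq E _ p hcov hpq hfin
  obtain ⟨z₀, q₁, g, s, hq₁, hg, hq01, hsc, hgs, hgood⟩ := h5 n hn q hq E p hcov hpq hfin
  by_cases hm0 : g.natDegree = 0
  · -- no points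
    let Q₁ : MvPolynomial (Fin (n + 1)) ℂ := rename Fin.succ q₁
    have hQ₁ : ∀ x : Fin (n + 1) → ℂ, eval x Q₁ = eval (Fin.tail x) q₁ := by
      intro x
      rw [eval_rename]
      rfl
    have hQ₁0 : Q₁ ≠ 0 := (map_ne_zero_iff _ (rename_injective _ (Fin.succ_injective n))).2 hq₁
    have hempty : ∀ x : Fin (n + 1) → ℂ, eval x (q * Q₁) ≠ 0 → (hfin x).toFinset = ∅ := by
      intro x hx
      rw [map_mul, mul_ne_zero_iff, hQ₁] at hx
      have e1 := (hgs _ hx.2).2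
      have e2 := congrArg Polynomial.natDegree e1
      rw [hg.natDegree_map, Polynomial.natDegree_finsetProd_X_sub_C_eq_card, hm0] at e2
      have e3 := ncard_line q p hcov (Fin.tail x) (x 0) z₀ (by rw [Fin.cons_self_tail]; exact hx.1)
        (hq01 _ hx.2)
      rw [Fin.cons_self_tail, Set.ncard_eq_toFinset_card _ (hfin x),
        Set.ncard_eq_toFinset_card _ (hfin _), ← e2] at e3
      exact Finset.card_eq_zero.1 e3
    refine ⟨q * Q₁, 1, fun _ => 0, mul_ne_zero hq hQ₁0, dvd_mul_right _ _, Polynomial.monic_one,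
      continuousOn_const, fun x hx => ?_⟩
    rw [hempty x hx, Finset.prod_empty, Polynomial.map_one]
    exact ⟨Polynomial.separable_one, rfl⟩
  · obtain ⟨N, q₂, μ, q₃, gc, ec, H, a1, a2, a3, a4, a5, a6, a7, a8, a9, a10, a11, a12, a13⟩ :=
      HData.exists_H q p hcov hpq hfin z₀ q₁ g s hq₁ hg hq01 hsc hgs hgood hm0
    exact h3 n q hq E p hcov hpq hfin z₀ g.natDegree N q₂ a1 a2 a3 s a4 μ a5 a6 a7 q₃ a8 a9 gc ec H
      a10 a11 a12 a13

theorem core_of (h3 : StmtP3) (h5 : StmtP5) : ∀ n, Core n := by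
  intro n
  induction n with
  | zero => exact core_zero
  | succ n ih => exact core_succ h3 h5 n ih

/-- helper870's form -/
theorem CORE_of (h : ∀ n, Core n) : H870.CoreDef.CORE := by
  classical
  intro n q hq E _ p hcov hpq hfin
  obtain ⟨q', f, F, hq', hqq', hf, hF, hall⟩ := h n q hq E p hcov hpq hfin
  refine ⟨q', f, F, hq', hf, hF, fun z hz => (hall z hz).1, fun z hz _ => ?_⟩
  have e1 := (hall z hz).1
  rw [(hall z hz).2] at e1 ⊢
  rw [Polynomial.separable_prod_X_sub_C_iff'] at e1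
  refine ⟨fun e he => ?_, fun e he e' he' h => ?_, fun t ht => ?_⟩
  · rw [mem_ofPred_eq, Polynomial.IsRoot.def, Polynomial.eval_prod]
    refine Finset.prod_eq_zero ((Set.Finite.mem_toFinset _).2 he) ?_
    rw [Polynomial.eval_sub, Polynomial.eval_X, Polynomial.eval_C, sub_self]
  · exact e1 e ((Set.Finite.mem_toFinset _).2 he) e' ((Set.Finite.mem_toFinset _).2 he') h
  · rw [mem_ofPred_eq, Polynomial.IsRoot.def, Polynomial.eval_prod, Finset.prod_eq_zero_iff] at ht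
    obtain ⟨e, he, het⟩ := ht
    rw [Polynomial.eval_sub, Polynomial.eval_X, Polynomial.eval_C, sub_eq_zero] at het
    exact ⟨e, (Set.Finite.mem_toFinset _).1 he, het.symm⟩

end Groth.Agent.An.H880.CoreMain
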