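import Groth.Agent.An.H880.Family
import Groth.Agent.An.H526.RootCov
import Groth.Agent.An.H869.Points

/-!
# Étale coordinates on a dense open part of the complex points of an affine variety

`exists_std`: for `A` a domain of finite type over `ℂ`, the space of complex points of some `A_f`
(with the topology of pointwise convergence) is connected and locally contractible.
-/

set_option autoImplicit false

namespace Groth.Agent.An.H880.EtCoord

open Topology unitInterval Set
open Groth.Agent.An.H526.RootCov Groth.Agent.An.H880.Family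

section LC

variable {V : Type*} [NormedAddCommGroup V] [NormedSpace ℝ V]

/-- A space which is locally homeomorphic to a normed space is locally contractible. -/
theorem lc_of_isLocalHomeomorph {T : Type*} [TopologicalSpace T] (f : T → V)
    (hf : IsLocalHomeomorph f) : LC T := by
  intro t₀ U hU
  obtain ⟨φ, ht₀, -⟩ := hf t₀
  have h1 : φ.source ∩ φ ⁻¹' (φ.target ∩ φ.symm ⁻¹' (interior U)) ∈ 𝓝 t₀ := by
    have h2 : φ.target ∩ φ.symm ⁻¹' (interior U) ∈ 𝓝 (φ t₀) := by
      refine (φ.isOpen_inter_preimage_symm isOpen_interior).mem_nhds ⟨φ.map_source ht₀, ?_⟩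
      rw [mem_preimage, φ.left_inv ht₀]
      exact mem_interior_iff_mem_nhds.2 hU
    exact Filter.inter_mem (φ.open_source.mem_nhds ht₀) (φ.continuousAt ht₀ h2)
  have h2 : φ.target ∩ φ.symm ⁻¹' (interior U) ∈ 𝓝 (φ t₀) := by
    refine (φ.isOpen_inter_preimage_symm isOpen_interior).mem_nhds ⟨φ.map_source ht₀, ?_⟩
    rw [mem_preimage, φ.left_inv ht₀]
    exact mem_interior_iff_mem_nhds.2 hU
  obtain ⟨ε, hε, hball⟩ := Metric.mem_nhds_iff.1 h2
  refine ⟨φ.source ∩ φ ⁻¹' Metric.ball (φ t₀) ε, φ.isOpen_inter_preimage Metric.isOpen_ball,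
    ⟨ht₀, Metric.mem_ball_self hε⟩, ?_, ?_⟩
  · rintro t ⟨ht, htb⟩
    have h3 := (hball htb).2
    rw [mem_preimage, φ.left_inv ht] at h3
    exact interior_subset h3
  · intro t₁
    have hseg : ∀ (s : I) (v : ↥(φ.source ∩ φ ⁻¹' Metric.ball (φ t₀) ε)),
        (1 - (s : ℝ)) • φ v + (s : ℝ) • φ t₁ ∈ Metric.ball (φ t₀) ε := by
      intro s v
      refine (convex_ball (φ t₀) ε) v.2.2 t₁.2.2 ?_ s.2.1 (by ring)
      have := s.2.2
      linarith
    have hc0 : Continuous fun v : ↥(φ.source ∩ φ ⁻¹' Metric.ball (φ t₀) ε) => φ v :=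
      φ.continuousOn.comp_continuous continuous_subtype_val (fun v => v.2.1)
    have hc : Continuous fun p : I × ↥(φ.source ∩ φ ⁻¹' Metric.ball (φ t₀) ε) =>
        φ.symm ((1 - (p.1 : ℝ)) • φ p.2 + (p.1 : ℝ) • φ t₁) := by
      refine φ.continuousOn_symm.comp_continuous ?_ (fun p => (hball (hseg p.1 p.2)).1)
      have h5 : Continuous fun p : I × ↥(φ.source ∩ φ ⁻¹' Metric.ball (φ t₀) ε) => φ p.2 :=
        hc0.comp continuous_snd
      exact ((continuous_const.sub (continuous_subtype_val.comp continuous_fst)).smul h5).add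
        ((continuous_subtype_val.comp continuous_fst).smul continuous_const)
    have hmem : ∀ p : I × ↥(φ.source ∩ φ ⁻¹' Metric.ball (φ t₀) ε),
        φ.symm ((1 - (p.1 : ℝ)) • φ p.2 + (p.1 : ℝ) • φ t₁) ∈
          φ.source ∩ φ ⁻¹' Metric.ball (φ t₀) ε := by
      intro p
      refine ⟨φ.map_target (hball (hseg p.1 p.2)).1, ?_⟩
      rw [mem_preimage, φ.right_inv (hball (hseg p.1 p.2)).1]
      exact hseg p.1 p.2
    refine ⟨⟨fun p => ⟨φ.symm ((1 - (p.1 : ℝ)) • φ p.2 + (p.1 : ℝ) • φ t₁), hmem p⟩,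
      hc.subtype_mk hmem⟩, ?_, ?_, ?_⟩
    · intro v
      apply Subtype.ext
      simp [φ.left_inv v.2.1]
    · intro v
      apply Subtype.ext
      simp [φ.left_inv t₁.2.1]
    · intro s
      apply Subtype.ext
      have h4 : (1 - (s : ℝ)) • φ t₁ + (s : ℝ) • φ t₁ = φ t₁ := by
        rw [← add_smul]
        simp
      simp only [ContinuousMap.coe_mk, h4]
      exact φ.left_inv t₁.2.1

end LC

open MvPolynomial Groth.Agent.An.H869.LocalRoots Groth.Agent.An.H869.Points
open Groth.Agent.An.H869

variable {k : ℕ}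

/-- the étale locus -/
abbrev Ba (D : MvPolynomial (Fin k) ℂ) : Type := {x : Fin k → ℂ // eval x D ≠ 0}

/-- the étale locus upstairs -/
abbrev EtT (P : Polynomial (MvPolynomial (Fin k) ℂ)) (D : MvPolynomial (Fin k) ℂ) : Type :=
  Tot (fun x : Ba D => P.map (eval x.1))

variable {P : Polynomial (MvPolynomial (Fin k) ℂ)} {D : MvPolynomial (Fin k) ℂ}

lemma isLocalHomeomorph_fst (hP : P.Monic) (u v : Polynomial (MvPolynomial (Fin k) ℂ))
    (hbez : u * P + v * Polynomial.derivative P = Polynomial.C D) :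
    IsLocalHomeomorph (fun q : EtT P D => (q.1.1.1 : Fin k → ℂ)) := by
  have hsep := Interp.separable_of_bezout hbez
  have h1 : IsCoveringMap (pr (fun x : Ba D => P.map (eval x.1))) :=
    isCoveringMap_roots (m := P.natDegree) (fun x => hP.map _) (fun x => hP.natDegree_map _)
      (fun i => by
        simp only [Polynomial.coeff_map]
        exact (MvPolynomial.continuous_eval (P.coeff i)).comp continuous_subtype_val)
      (fun x => hsep x.1 x.2)
  have h2 : IsOpenEmbedding (Subtype.val : Ba D → (Fin k → ℂ)) :=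
    (Growth.isOpen_ne_zero D).isOpenEmbedding_subtypeVal
  exact h2.isLocalHomeomorph.comp h1.isLocalHomeomorph

lemma lc_EtT (hP : P.Monic) (u v : Polynomial (MvPolynomial (Fin k) ℂ))
    (hbez : u * P + v * Polynomial.derivative P = Polynomial.C D) : LC (EtT P D) :=
  lc_of_isLocalHomeomorph _ (isLocalHomeomorph_fst hP u v hbez)

lemma preconnectedSpace_EtT (hP : P.Monic) (hprime : Prime P)
    (u v : Polynomial (MvPolynomial (Fin k) ℂ)) (hD : D ≠ 0)
    (hbez : u * P + v * Polynomial.derivative P = Polynomial.C D) : PreconnectedSpace (EtT P D) := by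
  classical
  rw [preconnectedSpace_iff_clopen]
  intro G hG
  let j : EtT P D → (Fin k → ℂ) × ℂ := fun q => (q.1.1.1, q.1.2)
  have hj : IsEmbedding j := by
    have h0 : IsEmbedding (Subtype.val : EtT P D → Ba D × ℂ) := IsEmbedding.subtypeVal
    exact (IsEmbedding.subtypeVal.prodMap IsEmbedding.id).comp h0
  let mk : ∀ q : (Fin k → ℂ) × ℂ, F P q = 0 → eval q.1 D ≠ 0 → EtT P D := fun q hq hD =>
    ⟨(⟨q.1, hD⟩, q.2), hq⟩
  let e : (Fin k → ℂ) × ℂ → ℂ := fun q => if q ∈ j '' G then 1 else 0
  have he : ∀ q (hq : F P q = 0) (hD : eval q.1 D ≠ 0), q ∈ j '' G ↔ mk q hq hD ∈ G := by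
    intro q hq hD
    constructor
    · rintro ⟨x, hx, rfl⟩
      exact hx
    · intro h
      exact ⟨_, h, rfl⟩
  have key := Interp.eq_zero_or_eq_one hP hprime u v D hD hbez e (by
    intro q _ _
    simp only [e]
    split_ifs
    · exact Or.inr rfl
    · exact Or.inl rfl) (by
    intro q0 hD0 hq0
    have hopen : ∀ᶠ q : (Fin k → ℂ) × ℂ in 𝓝 q0, eval q.1 D ≠ 0 :=
      ((Growth.isOpen_ne_zero D).preimage continuous_fst).mem_nhds hD0
    have hloc : ∀ O : Set (EtT P D), IsOpen O → mk q0 hq0 hD0 ∈ O →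
        ∀ᶠ q in 𝓝 q0, ∀ (hq : F P q = 0) (hD : eval q.1 D ≠ 0), mk q hq hD ∈ O := by
      intro O hO hmem
      obtain ⟨O', hO', rfl⟩ := hj.isOpen_iff.1 hO
      filter_upwards [hO'.mem_nhds hmem] with q hq hq' hD'
      exact hq
    by_cases hx : mk q0 hq0 hD0 ∈ G
    · filter_upwards [hloc G hG.isOpen hx, hopen] with q hq hDq hPq
      simp only [e]
      rw [if_pos ((he q hPq hDq).2 (hq hPq hDq)), if_pos ((he q0 hq0 hD0).2 hx)]
    · filter_upwards [hloc Gᶜ hG.isClosed.isOpen_compl hx, hopen] with q hq hDq hPq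
      simp only [e]
      rw [if_neg (fun h => hq hPq hDq ((he q hPq hDq).1 h)),
        if_neg (fun h => hx ((he q0 hq0 hD0).1 h))])
  rcases key with key | key
  · left
    rw [Set.eq_empty_iff_forall_notMem]
    intro x hx
    have h1 := key (j x) x.1.1.2 x.2
    simp only [e] at h1
    rw [if_pos ⟨x, hx, rfl⟩] at h1
    exact one_ne_zero h1
  · right
    rw [Set.eq_univ_iff_forall]
    intro x
    have h1 := key (j x) x.1.1.2 x.2
    simp only [e] at h1
    by_contra hx
    rw [if_neg (fun h => hx ((he (j x) x.2 x.1.1.2).1 h))] at h1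
    exact zero_ne_one h1

/-- **Étale coordinates.** -/
theorem exists_std (A : Type) [CommRing A] [IsDomain A] [Algebra ℂ A] [Algebra.FiniteType ℂ A] :
    ∃ (T : Type) (_ : TopologicalSpace T) (pt : T → (A →ₐ[ℂ] ℂ)) (f : A),
      PreconnectedSpace T ∧ LC T ∧ IsInducing (fun (t : T) (a : A) => pt t a) ∧ f ≠ 0 ∧
      (∀ t, pt t f ≠ 0) ∧ ∀ x : A →ₐ[ℂ] ℂ, x f ≠ 0 → ∃ t, pt t = x := by
  classical
  obtain ⟨n, g, hg, hfin⟩ := exists_finite_inj_algHom_of_fg ℂ A
  algebraize [g.toRingHom]
  have : IsScalarTower ℂ (MvPolynomial (Fin n) ℂ) A := IsScalarTower.of_algebraMap_eq' (by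
    ext c
    exact (g.commutes c).symm)
  have : FaithfulSMul (MvPolynomial (Fin n) ℂ) A := (faithfulSMul_iff_algebraMap_injective _ _).2 hg
  have : Module.Finite (MvPolynomial (Fin n) ℂ) A := hfin
  obtain ⟨t, u, v, D, hD, hbez, hden⟩ := Prim.exists_primitive (MvPolynomial (Fin n) ℂ) A
  choose h hh using hden
  have hint : IsIntegral (MvPolynomial (Fin n) ℂ) t := Algebra.IsIntegral.isIntegral t
  set P := minpoly (MvPolynomial (Fin n) ℂ) t with hPdef
  have hP : ∀ p : Polynomial (MvPolynomial (Fin n) ℂ), Polynomial.aeval t p = 0 → P ∣ p :=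
    fun p hp => minpoly.isIntegrallyClosed_dvd hint hp
  have hPm : P.Monic := minpoly.monic hint
  have hprime : Prime P := minpoly.prime_of_isIntegrallyClosed hint
  let q : EtT P D → (Fin n → ℂ) × ℂ := fun y => (y.1.1.1, y.1.2)
  let pt : EtT P D → (A →ₐ[ℂ] ℂ) := fun y => point t P hP D h hh (q y) y.2 y.1.1.2
  have hcoords : ∀ y, coords t (pt y) = q y := by
    intro y
    have hF : ∀ p : Polynomial (MvPolynomial (Fin n) ℂ), pt y (Polynomial.aeval t p) = F p (q y) := by
      intro p
      change F (h (Polynomial.aeval t p)) (q y) / eval (q y).1 D = F p (q y)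
      have hDy : eval (q y).1 D ≠ 0 := y.1.1.2
      rw [div_eq_iff hDy, F_congr t P hP (q y) y.2 (p := h (Polynomial.aeval t p))
        (p' := Polynomial.C D * p), Interp.F_mul, Interp.F_C, mul_comm]
      rw [map_mul, Polynomial.aeval_C, hh]
    refine Prod.ext ?_ ?_
    · ext i
      have := hF (Polynomial.C (X i))
      rw [Polynomial.aeval_C, Interp.F_C, eval_X] at this
      exact this
    · have := hF Polynomial.X
      rw [Polynomial.aeval_X] at this
      rw [coords, this]
      simp [F]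
  refine ⟨EtT P D, inferInstance, pt, algebraMap (MvPolynomial (Fin n) ℂ) A D,
    preconnectedSpace_EtT hPm hprime u v hD hbez, lc_EtT hPm u v hbez, ?_, ?_, ?_, ?_⟩
  · -- the topology is induced by the evaluations
    have hq : IsInducing q := by
      have h0 : IsInducing (Subtype.val : EtT P D → Ba D × ℂ) := IsInducing.subtypeVal
      exact (IsInducing.subtypeVal.prodMap IsInducing.id).comp h0
    have hcont : Continuous (fun (y : EtT P D) (a : A) => pt y a) := by
      refine continuous_pi fun a => ?_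
      change Continuous fun y : EtT P D => F (h a) (q y) / eval (q y).1 D
      refine Continuous.div ((continuous_F (h a)).comp hq.continuous)
        ((MvPolynomial.continuous_eval D).comp (continuous_fst.comp hq.continuous))
        (fun y => y.1.1.2)
    refine ⟨le_antisymm hcont.le_induced ?_⟩
    rw [hq.eq_induced]
    -- `q` factors through the evaluations
    have hfac : q = (fun w : A → ℂ => ((fun i => w (algebraMap (MvPolynomial (Fin n) ℂ) A (X i))),
        w t)) ∘ (fun (y : EtT P D) (a : A) => pt y a) := by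
      ext1 y
      exact (hcoords y).symm
    rw [hfac, ← induced_compose]
    refine induced_mono ?_
    rw [← continuous_iff_le_induced]
    fun_prop
  · rw [Ne, FaithfulSMul.algebraMap_eq_zero_iff]
    exact hD
  · intro y
    have h1 := eval_coords (n := n) t (pt y) D
    rw [hcoords] at h1
    rw [← h1]
    exact y.1.1.2
  · intro x hx
    obtain ⟨hq, hDq, hxeq⟩ := eq_point t P hP D h hh (minpoly.aeval _ _) x hx
    exact ⟨⟨(⟨(coords (n := n) t x).1, hDq⟩, (coords (n := n) t x).2), hq⟩, hxeq.symm⟩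

end Groth.Agent.An.H880.EtCoord
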