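import Mathlib.RingTheory.Polynomial.Resultant.Basic
import Mathlib.FieldTheory.Separable
import Mathlib.Algebra.MvPolynomial.Eval
import Mathlib.Analysis.Complex.Basic
import Mathlib.Logic.Equiv.Fin.Basic

/-!
# The universal family of monic polynomials of degree `m` in `T` with coefficients polynomials of
degree `≤ N` in `z`
-/

set_option autoImplicit false

namespace Groth.Agent.An.H880.Fam

open Polynomial

/-- `T ^ m + ∑ i < m, (∑ l ≤ N, c_{i,l} z ^ l) T ^ i` -/
noncomputable def fam {R : Type*} [CommRing R] (m N : ℕ) (c : Fin (m * (N + 1)) → R) : R[X][X] :=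
  X ^ m + ∑ i : Fin m, C (∑ l : Fin (N + 1), C (c (finProdFinEquiv (i, l))) * X ^ (l : ℕ)) *
    X ^ (i : ℕ)

variable {R S : Type*} [CommRing R] [CommRing S] {m N : ℕ}

lemma fam_map (φ : R →+* S) (c : Fin (m * (N + 1)) → R) :
    (fam m N c).map (mapRingHom φ) = fam m N (fun j => φ (c j)) := by
  simp [fam, Polynomial.map_sum]

lemma degree_sum_lt (a : Fin m → R) : (∑ i : Fin m, C (a i) * X ^ (i : ℕ) : R[X]).degree < m := by
  rw [Polynomial.degree_lt_iff_coeff_zero]
  intro j hj
  rw [finsetSum_coeff]
  refine Finset.sum_eq_zero fun i _ => ?_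
  rw [coeff_C_mul, coeff_X_pow, if_neg (by have := i.2; omega), mul_zero]

lemma monic_fam (c : Fin (m * (N + 1)) → R) : (fam m N c).Monic :=
  monic_X_pow_add (degree_sum_lt _)

lemma natDegree_fam [Nontrivial R] (c : Fin (m * (N + 1)) → R) : (fam m N c).natDegree = m := by
  unfold fam
  rw [natDegree_add_eq_left_of_degree_lt (by rw [degree_X_pow]; exact degree_sum_lt _),
    natDegree_X_pow]

/-- every monic polynomial occurs in the family -/
lemma exists_fam (f : ℂ[X][X]) (hf : f.Monic) (hm : f.natDegree = m)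
    (hN : ∀ i, (f.coeff i).natDegree ≤ N) : ∃ c, fam m N c = f := by
  refine ⟨fun j => (f.coeff (finProdFinEquiv.symm j).1).coeff (finProdFinEquiv.symm j).2, ?_⟩
  unfold fam
  simp only [Equiv.symm_apply_apply]
  have h1 : ∀ i : Fin m, (∑ l : Fin (N + 1), C ((f.coeff i).coeff l) * X ^ (l : ℕ)) = f.coeff i := by
    intro i
    rw [Fin.sum_univ_eq_sum_range (fun l => C ((f.coeff i).coeff l) * X ^ l) (N + 1)]
    exact ((f.coeff i).as_sum_range_C_mul_X_pow' (by have := hN i; omega)).symm
  simp only [h1]
  rw [Fin.sum_univ_eq_sum_range (fun i => C (f.coeff i) * X ^ i) m]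
  conv_rhs => rw [f.as_sum_range_C_mul_X_pow, hm, Finset.sum_range_succ, ← hm,
    show f.coeff f.natDegree = 1 from hf, hm, C_1, one_mul, add_comm]

/-- the resultant of `f` and `f'` -/
noncomputable def dsc (m : ℕ) (f : R[X]) : R := resultant f f.derivative m m

lemma dsc_map (φ : R →+* S) (f : R[X]) : dsc m (f.map φ) = φ (dsc m f) := by
  unfold dsc
  rw [← resultant_map_map, derivative_map]

/-- For a monic polynomial over a field, `dsc` detects separability. -/
lemma separable_iff (f : ℂ[X]) (hf : f.Monic) (hm : f.natDegree = m) :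
    f.Separable ↔ dsc m f ≠ 0 := by
  have hle : f.derivative.natDegree ≤ f.natDegree := by
    have := natDegree_derivative_le f
    omega
  obtain ⟨k, hk⟩ := Nat.exists_eq_add_of_le hle
  have h2 : dsc m f = resultant f f.derivative := by
    have h3 := resultant_add_right_deg f f.derivative f.natDegree _ k le_rfl
    rw [← hk] at h3
    unfold dsc
    rw [← hm, h3, coeff_natDegree, hf.leadingCoeff, one_pow, one_mul]
  rw [h2, ← isUnit_iff_ne_zero, isUnit_resultant_iff_isCoprime hf]
  rfl

end Groth.Agent.An.H880.Fam
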