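import Groth.Agent.An.H880.Family
import Groth.Agent.An.H526.RootCov

/-!
# Roots of a family of polynomials on a covering of a family of punctured planes
-/

set_option autoImplicit false

namespace Groth.Agent.An.H880.FamRoot

open Topology unitInterval Set Polynomial
open Groth.Agent.An.H526.RootCov Groth.Agent.An.H880.Family

variable {T E : Type*} [TopologicalSpace T] [TopologicalSpace E]
  {r : ℕ} (a : Fin r → T → ℂ)

/-- A root function over one fibre, compatible with a prescribed root function over `z = z₀`, extends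
globally. -/
theorem exists_root [PreconnectedSpace T] (hT : LC T) (ha : ∀ i, Continuous (a i))
    (hinj : ∀ t i j, i ≠ j → a i t ≠ a j t) (z₀ : ℂ) (hz₀ : ∀ t i, z₀ ≠ a i t)
    {π : E → XX a} (hπ : IsCoveringMap π) {m : ℕ} (hm0 : m ≠ 0) (P : XX a → ℂ[X])
    (hPm : ∀ x, (P x).Monic) (hPd : ∀ x, (P x).natDegree = m)
    (hPc : ∀ i, Continuous fun x => (P x).coeff i) (hPs : ∀ x, (P x).Separable)
    (s : E → ℂ) (hsc : ContinuousOn s {e | (π e).1.2 = z₀})
    (hs : ∀ e, (π e).1.2 = z₀ → (P (π e)).eval (s e) = 0)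
    (t₁ : T) (F₁ : E → ℂ) (hF₁c : ContinuousOn F₁ {e | (π e).1.1 = t₁})
    (hF₁ : ∀ e, (π e).1.1 = t₁ → (P (π e)).eval (F₁ e) = 0)
    (hF₁s : ∀ e, (π e).1.1 = t₁ → (π e).1.2 = z₀ → F₁ e = s e) :
    ∃ F : E → ℂ, Continuous F ∧ (∀ e, (P (π e)).eval (F e) = 0) ∧
      ∀ e, (π e).1.2 = z₀ → F e = s e := by
  classical
  have hdef : ∀ e, ∃ w : ℂ, (P (π e)).eval w = 0 := fun e =>
    IsAlgClosed.exists_root _ (by
      rw [Polynomial.degree_eq_natDegree (hPm _).ne_zero, hPd]
      exact_mod_cast hm0)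
  choose d hd using hdef
  let Q : E → ℂ[X] := fun e => P (π e)
  let toW : (E → ℂ) → E → Tot Q := fun G e =>
    if h : (Q e).eval (G e) = 0 then ⟨(e, G e), h⟩ else ⟨(e, d e), hd e⟩
  have htoW : ∀ (G : E → ℂ) (e : E) (h : (Q e).eval (G e) = 0), toW G e = ⟨(e, G e), h⟩ :=
    fun G e h => dif_pos h
  have hcont : ∀ (G : E → ℂ) (Z : Set E), (∀ e ∈ Z, (Q e).eval (G e) = 0) → ContinuousOn G Z →
      ContinuousOn (toW G) Z := by
    intro G Z hZ hG
    rw [continuousOn_iff_continuous_domRestrict] at hG ⊢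
    have h1 : Z.domRestrict (toW G) = fun z : Z => (⟨(z, G z), hZ z z.2⟩ : Tot Q) := by
      ext1 z
      exact htoW G z (hZ z z.2)
    rw [h1]
    exact Continuous.subtype_mk (continuous_subtype_val.prodMk hG) _
  have hϖ : IsCoveringMap (pr Q) := isCoveringMap_roots (m := m) (fun e => hPm _)
    (fun e => hPd _) (fun i => (hPc i).comp hπ.continuous) (fun e => hPs _)
  obtain ⟨F, hFc, hFs, hFτ⟩ := exists_global a hT ha hinj z₀ hz₀ hπ hϖ (toW s)
    (hcont s _ (fun e he => hs e he) hsc)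
    (fun e he => by rw [htoW s e (hs e he)]; rfl) t₁ (toW F₁)
    (hcont F₁ _ (fun e he => hF₁ e he) hF₁c)
    (fun e he => by rw [htoW F₁ e (hF₁ e he)]; rfl)
    (fun e he he0 => by
      rw [htoW F₁ e (hF₁ e he), htoW s e (hs e he0)]
      exact Subtype.ext (Prod.ext rfl (hF₁s e he he0)))
  refine ⟨fun e => (F e).1.2, by fun_prop, ?_, ?_⟩
  · intro e
    have h1 := (F e).2
    have h2 : (F e).1.1 = e := hFs e
    rw [h2] at h1
    exact h1
  · intro e he
    simp only
    rw [hFτ e he, htoW s e (hs e he)]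

end Groth.Agent.An.H880.FamRoot
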