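import Mathlib.Topology.Covering.Basic
import Mathlib.Topology.Homotopy.Lifting
import Mathlib.Data.Set.Card

/-!
# Pullbacks of coverings, cardinality of the fibres
-/

set_option autoImplicit false

namespace Groth.Agent.An.H880.Pull

open Topology Set

variable {X Y E : Type*} [TopologicalSpace X] [TopologicalSpace Y] [TopologicalSpace E]

/-- The pullback of a covering is a covering. -/
theorem isCoveringMap_pullback {p : E → Y} {s : Set Y} (hp : IsCoveringMapOn p s) {g : X → Y}
    (hg : Continuous g) (hgs : ∀ x, g x ∈ s) :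
    IsCoveringMap (fun w : {w : X × E // p w.2 = g w.1} => w.1.1) := by
  intro x
  obtain ⟨hd, U, hxU, hU, hpU, H, hH⟩ := hp (g x) (hgs x)
  refine IsEvenlyCovered.to_isEvenlyCovered_preimage (I := p ⁻¹' {g x})
    ⟨hd, g ⁻¹' U, hxU, hU.preimage hg, (hU.preimage hg).preimage (by fun_prop), ?_⟩
  have hmem : ∀ w : ((fun w : {w : X × E // p w.2 = g w.1} => w.1.1) ⁻¹' (g ⁻¹' U)),
      w.1.1.2 ∈ p ⁻¹' U := fun w => by
    rw [mem_preimage, w.1.2]
    exact w.2
  have hs : ∀ (x' : g ⁻¹' U) (i : p ⁻¹' {g x}), p (H.symm (⟨g x', x'.2⟩, i)) = g x' := by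
    intro x' i
    rw [← hH, H.apply_symm_apply]
  refine ⟨{
    toFun := fun w => (⟨w.1.1.1, w.2⟩, (H ⟨w.1.1.2, hmem w⟩).2)
    invFun := fun y => ⟨⟨(y.1, H.symm (⟨g y.1, y.1.2⟩, y.2)), hs y.1 y.2⟩, y.1.2⟩
    left_inv := ?_
    right_inv := ?_
    continuous_toFun := by fun_prop
    continuous_invFun := by fun_prop }, ?_⟩
  · intro w
    apply Subtype.ext
    apply Subtype.ext
    refine Prod.ext rfl ?_
    simp only
    have h1 : ((⟨g w.1.1.1, w.2⟩ : U), (H ⟨w.1.1.2, hmem w⟩).2) = H ⟨w.1.1.2, hmem w⟩ := by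
      refine Prod.ext (Subtype.ext ?_) rfl
      rw [hH]
      exact w.1.2.symm
    rw [h1, H.symm_apply_apply]
  · intro y
    refine Prod.ext rfl ?_
    simp
  · intro w
    rfl

/-- The fibres of a covering over points that can be joined have the same cardinality. -/
theorem ncard_fibre_eq {p : E → Y} {s : Set Y} (hp : IsCoveringMapOn p s) {x y : Y}
    (h : JoinedIn s x y) : (p ⁻¹' {x}).ncard = (p ⁻¹' {y}).ncard := by
  obtain ⟨γ, hγ⟩ := h
  have hc := isCoveringMap_pullback hp γ.continuous hγ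
  have hb := hc.monodromy_bijective (x := (0 : unitInterval)) (y := 1)
    (Path.Homotopic.Quotient.mk ⟨⟨fun t => t, continuous_id⟩, rfl, rfl⟩)
  have e0 : ∀ t : unitInterval, ((fun w : {w : unitInterval × E // p w.2 = γ w.1} => w.1.1) ⁻¹' {t}) ≃
      (p ⁻¹' {γ t}) := fun t =>
    { toFun := fun w => ⟨w.1.1.2, by
        have h1 := w.1.2
        have h2 : w.1.1.1 = t := w.2
        rw [h2] at h1
        exact h1⟩
      invFun := fun e => ⟨⟨(t, e.1), e.2⟩, rfl⟩
      left_inv := fun w => by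
        apply Subtype.ext
        apply Subtype.ext
        exact Prod.ext (show t = w.1.1.1 from w.2.symm) rfl
      right_inv := fun e => rfl }
  have h3 : Nat.card (p ⁻¹' {γ 0}) = Nat.card (p ⁻¹' {γ 1}) := by
    rw [← Nat.card_congr (e0 0), ← Nat.card_congr (e0 1)]
    exact Nat.card_eq_of_bijective _ hb
  rwa [γ.source, γ.target] at h3

end Groth.Agent.An.H880.Pull
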