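import Groth.Agent.An.H880.Param
import Groth.Agent.An.H880.FamRoot
import Groth.Agent.An.H880.Pull
import Groth.Agent.An.H880.EtCoord

/-!
# The family of root functions over the parameter space
-/

set_option autoImplicit false

namespace Groth.Agent.An.H880.FamPts

open MvPolynomial Topology Set Groth.Agent.An.H880.Fam Groth.Agent.An.H880.CoreDef
open Groth.Agent.An.H880.Family

lemma coeff_fam_map (m N : ℕ) (c : Fin (m * (N + 1)) → ℂ) (z : ℂ) (k : ℕ) :
    ((fam m N c).map (Polynomial.evalRingHom z)).coeff k =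
      (if k = m then 1 else 0) + ∑ i : Fin m, (∑ l : Fin (N + 1), c (finProdFinEquiv (i, l)) * z ^ (l : ℕ)) *
        (if k = i then 1 else 0) := by
  unfold fam
  simp only [Polynomial.map_add, Polynomial.map_pow, Polynomial.map_X, Polynomial.map_sum,
    Polynomial.map_mul, Polynomial.map_C, Polynomial.coeff_add, Polynomial.coeff_X_pow,
    Polynomial.finsetSum_coeff, Polynomial.coeff_C_mul, Polynomial.coe_evalRingHom,
    Polynomial.eval_finsetSum, Polynomial.eval_mul, Polynomial.eval_C, Polynomial.eval_pow,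
    Polynomial.eval_X]

lemma continuous_coeff_fam {Y : Type*} [TopologicalSpace Y] (m N : ℕ)
    (c : Y → Fin (m * (N + 1)) → ℂ) (z : Y → ℂ) (hc : ∀ j, Continuous fun y => c y j)
    (hz : Continuous z) (k : ℕ) :
    Continuous fun y => ((fam m N (c y)).map (Polynomial.evalRingHom (z y))).coeff k := by
  simp only [coeff_fam_map]
  fun_prop

variable {E : Type} [TopologicalSpace E] {n r : ℕ} {A : Type} [CommRing A] [Algebra ℂ A]

/-- pairs (point `t` of `A`, `e ∈ E`), with `p e = (z, b(t))` and `z ≠ a_i(t)` -/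
def WW (φ : MvPolynomial (Fin n) ℂ →ₐ[ℂ] A) (a : Fin r → A) (p : E → (Fin (n + 1) → ℂ)) :
    Set ((A →ₐ[ℂ] ℂ) × E) :=
  {w | Fin.tail (p w.2) = (fun i => w.1 (φ (X i))) ∧ ∀ i, p w.2 0 ≠ w.1 (a i)}

theorem exists_H₀ [IsDomain A] [Algebra.FiniteType ℂ A] {m N : ℕ} (hm0 : m ≠ 0)
    (q : MvPolynomial (Fin (n + 1)) ℂ) (p : E → (Fin (n + 1) → ℂ))
    (hcov : IsCoveringMapOn p {x | eval x q ≠ 0}) (hfin : ∀ x, (p ⁻¹' {x}).Finite)
    (q₁ : MvPolynomial (Fin n) ℂ) (z₀ : ℂ) (s : E → ℂ)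
    (hsc : ContinuousOn s {e | p e 0 = z₀ ∧ eval (Fin.tail (p e)) q₁ ≠ 0})
    (g : Polynomial (MvPolynomial (Fin n) ℂ))
    (hgs : ∀ b, eval b q₁ ≠ 0 → g.map (eval b) =
      ∏ e ∈ (hfin (Fin.cons z₀ b)).toFinset, (Polynomial.X - Polynomial.C (s e)))
    (φ : MvPolynomial (Fin n) ℂ →ₐ[ℂ] A) (c : Fin (m * (N + 1)) → A) (a : Fin r → A)
    (h1 : ∀ (t : A →ₐ[ℂ] ℂ) i j, i ≠ j → t (a i) ≠ t (a j))
    (h2 : ∀ (t : A →ₐ[ℂ] ℂ) i, z₀ ≠ t (a i))
    (h3 : ∀ t : A →ₐ[ℂ] ℂ, eval (fun i => t (φ (X i))) q₁ ≠ 0)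
    (h4 : ∀ (t : A →ₐ[ℂ] ℂ) (z : ℂ), (∀ i, z ≠ t (a i)) →
      eval (Fin.cons z (fun i => t (φ (X i))) : Fin (n + 1) → ℂ) q ≠ 0 ∧
      ((fam m N (fun j => t (c j))).map (Polynomial.evalRingHom z)).Separable)
    (h5 : ∀ t : A →ₐ[ℂ] ℂ, (fam m N (fun j => t (c j))).map (Polynomial.evalRingHom z₀) =
      g.map (eval (fun i => t (φ (X i)))))
    (h6 : ∀ f : A, f ≠ 0 → ∃ t : A →ₐ[ℂ] ℂ, t f ≠ 0 ∧
      Good p z₀ s m N (fun i => t (φ (X i))) (fun j => t (c j))) :
    ∃ (f : A) (H₀ : (A →ₐ[ℂ] ℂ) × E → ℂ), f ≠ 0 ∧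
      (∀ (Y : Type) [TopologicalSpace Y] (θ : Y → (A →ₐ[ℂ] ℂ) × E),
        (∀ h : A, Continuous fun y => (θ y).1 h) → Continuous (fun y => (θ y).2) →
        (∀ y, θ y ∈ WW φ a p ∧ (θ y).1 f ≠ 0) → Continuous (H₀ ∘ θ)) ∧
      (∀ w ∈ WW φ a p, w.1 f ≠ 0 →
        ((fam m N (fun j => w.1 (c j))).map (Polynomial.evalRingHom (p w.2 0))).eval (H₀ w) = 0) ∧
      (∀ w ∈ WW φ a p, w.1 f ≠ 0 → p w.2 0 = z₀ → H₀ w = s w.2) := by
  classical
  obtain ⟨T, _, pt, f, hT, hLC, hind, hf, hptf, hsurj⟩ := EtCoord.exists_std A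
  have hptc : ∀ h : A, Continuous fun t => pt t h := fun h =>
    (continuous_apply h).comp hind.continuous
  let a' : Fin r → T → ℂ := fun i t => pt t (a i)
  let β : T → Fin n → ℂ := fun t i => pt t (φ (X i))
  have hβ : Continuous β := continuous_pi fun i => hptc _
  let gm : XX a' → (Fin (n + 1) → ℂ) := fun x => Fin.cons x.1.2 (β x.1.1)
  have hgm : Continuous gm := by
    refine continuous_pi fun i => ?_
    refine Fin.cases ?_ (fun j => ?_) i
    · simp only [gm, Fin.cons_zero]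
      fun_prop
    · simp only [gm, Fin.cons_succ]
      exact (continuous_apply j).comp (hβ.comp (by fun_prop))
  let E' : Type := {w : XX a' × E // p w.2 = gm w.1}
  let π : E' → XX a' := fun w => w.1.1
  have hπ : IsCoveringMap π := Pull.isCoveringMap_pullback hcov hgm
    (fun x => (h4 (pt x.1.1) x.1.2 x.2).1)
  have hp0 : ∀ w : E', p w.1.2 0 = (π w).1.2 := fun w => by
    rw [w.2]
    rfl
  have hpt : ∀ w : E', Fin.tail (p w.1.2) = β (π w).1.1 := fun w => by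
    rw [w.2]
    rfl
  let P : XX a' → Polynomial ℂ := fun x =>
    (fam m N (fun j => pt x.1.1 (c j))).map (Polynomial.evalRingHom x.1.2)
  obtain ⟨t, htf, FG, hFGc, hFGr, hFGs⟩ := h6 f hf
  obtain ⟨t₁, rfl⟩ := hsurj t htf
  have hsnd : Continuous fun w : E' => w.1.2 := by fun_prop
  obtain ⟨F, hFc, hFr, hFs⟩ := FamRoot.exists_root a' hLC (fun i => hptc (a i))
    (fun t i j hij => h1 (pt t) i j hij) z₀ (fun t i => h2 (pt t) i) hπ hm0 P
    (fun x => (monic_fam _).map _)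
    (fun x => by rw [(monic_fam _).natDegree_map, natDegree_fam])
    (fun k => continuous_coeff_fam m N _ _ (fun j => (hptc (c j)).comp (by fun_prop)) (by fun_prop) k)
    (fun x => (h4 (pt x.1.1) x.1.2 x.2).2)
    (fun w => s w.1.2)
    (by
      refine hsc.comp hsnd.continuousOn fun w hw => ⟨?_, ?_⟩
      · rw [hp0]; exact hw
      · rw [hpt]; exact h3 _)
    (by
      intro w hw
      have e1 : P (π w) = g.map (eval (β (π w).1.1)) := by
        rw [← h5 (pt (π w).1.1)]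
        change (fam m N (fun j => pt (π w).1.1 (c j))).map (Polynomial.evalRingHom (π w).1.2) = _
        rw [hw]
      have e2 : w.1.2 ∈ (hfin (Fin.cons z₀ (β (π w).1.1))).toFinset := by
        rw [Set.Finite.mem_toFinset, mem_preimage, w.2, mem_singleton_iff, ← hw]
      rw [e1, hgs _ (h3 _), Polynomial.eval_prod]
      refine Finset.prod_eq_zero e2 ?_
      rw [Polynomial.eval_sub, Polynomial.eval_X, Polynomial.eval_C, sub_self])
    t₁ (fun w => FG w.1.2)
    (by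
      refine hFGc.comp hsnd.continuousOn fun w hw => ?_
      change Fin.tail (p w.1.2) = _
      rw [hpt]
      have hw' : (π w).1.1 = t₁ := hw
      rw [hw'])
    (by
      intro w hw
      have hw' : Fin.tail (p w.1.2) = fun i => pt t₁ (φ (X i)) := by
        rw [hpt, hw]
      have e1 := hFGr w.1.2 hw'
      rw [hp0] at e1
      change ((fam m N (fun j => pt (π w).1.1 (c j))).map (Polynomial.evalRingHom (π w).1.2)).eval _ = 0
      rw [hw]
      exact e1)
    (by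
      intro w hw hw0
      have hw' : Fin.tail (p w.1.2) = fun i => pt t₁ (φ (X i)) := by
        rw [hpt, hw]
      exact hFGs w.1.2 hw' (by rw [hp0]; exact hw0))
  -- the function `H₀`
  have hτ : ∀ x : A →ₐ[ℂ] ℂ, ∃ t, x f ≠ 0 → pt t = x := by
    intro x
    by_cases h : x f = 0
    · exact ⟨t₁, fun h' => absurd h h'⟩
    · obtain ⟨t, ht⟩ := hsurj x h
      exact ⟨t, fun _ => ht⟩
  choose τ hτ using hτ
  have hmk : ∀ w : (A →ₐ[ℂ] ℂ) × E, w ∈ WW φ a p ∧ w.1 f ≠ 0 →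
      (∀ i, p w.2 0 ≠ a' i (τ w.1)) ∧ p w.2 = Fin.cons (p w.2 0) (β (τ w.1)) := by
    intro w hw
    have e1 : pt (τ w.1) = w.1 := hτ _ hw.2
    refine ⟨fun i => ?_, ?_⟩
    · change _ ≠ pt (τ w.1) (a i)
      rw [e1]
      exact hw.1.2 i
    · have e2 : β (τ w.1) = Fin.tail (p w.2) := by
        rw [hw.1.1]
        change (fun i => pt (τ w.1) (φ (X i))) = _
        rw [e1]
      rw [e2, Fin.cons_self_tail]
  let mk : ∀ w : (A →ₐ[ℂ] ℂ) × E, w ∈ WW φ a p ∧ w.1 f ≠ 0 → E' := fun w hw =>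
    ⟨(⟨(τ w.1, p w.2 0), (hmk w hw).1⟩, w.2), (hmk w hw).2⟩
  let H₀ : (A →ₐ[ℂ] ℂ) × E → ℂ := fun w => if hw : w ∈ WW φ a p ∧ w.1 f ≠ 0 then F (mk w hw) else 0
  have hH₀ : ∀ w hw, H₀ w = F (mk w hw) := fun w hw => dif_pos hw
  refine ⟨f, H₀, hf, ?_, ?_, ?_⟩
  · intro Y _ θ hθ1 hθ2 hθ
    have e1 : H₀ ∘ θ = fun y => F (mk (θ y) (hθ y)) := funext fun y => hH₀ _ (hθ y)
    rw [e1]
    refine hFc.comp ?_
    have hτc : Continuous fun y => τ (θ y).1 := by
      rw [hind.continuous_iff]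
      refine continuous_pi fun h => ?_
      have e2 : (fun y => ((fun (t : T) (a : A) => pt t a) ∘ fun y => τ (θ y).1) y h) =
          fun y => (θ y).1 h := by
        funext y
        exact congrArg (fun x : A →ₐ[ℂ] ℂ => x h) (hτ _ (hθ y).2)
      rw [e2]
      exact hθ1 h
    have hpc : Continuous fun y => p (θ y).2 0 := by
      have e3 : ContinuousOn p {e | eval (p e) q ≠ 0} := hcov.continuousOn
      have e4 : ContinuousOn p {e | eval (p e) q ≠ 0} := e3
      have e5 : ∀ y, eval (p (θ y).2) q ≠ 0 := fun y => by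
        have := (h4 (pt (τ (θ y).1)) (p (θ y).2 0) (hmk _ (hθ y)).1).1
        have e6 := (hmk _ (hθ y)).2
        rw [e6]
        simpa using this
      have e7 : Continuous fun y => p (θ y).2 := e4.comp_continuous hθ2 e5
      exact (continuous_apply 0).comp e7
    exact Continuous.subtype_mk (Continuous.prodMk (Continuous.subtype_mk (hτc.prodMk hpc) _) hθ2) _
  · intro w hw hwf
    rw [hH₀ w ⟨hw, hwf⟩]
    have e1 := hFr (mk w ⟨hw, hwf⟩)
    have e2 : P (π (mk w ⟨hw, hwf⟩)) =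
        (fam m N (fun j => w.1 (c j))).map (Polynomial.evalRingHom (p w.2 0)) := by
      change (fam m N (fun j => pt (τ w.1) (c j))).map (Polynomial.evalRingHom (p w.2 0)) = _
      rw [hτ _ hwf]
    rw [e2] at e1
    exact e1
  · intro w hw hwf hw0
    rw [hH₀ w ⟨hw, hwf⟩]
    exact hFs (mk w ⟨hw, hwf⟩) hw0

end Groth.Agent.An.H880.FamPts
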