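import Groth.Agent.An.H880.SectExt
import Mathlib.Analysis.Normed.Module.Connected
import Mathlib.LinearAlgebra.Complex.FiniteDimensional

/-!
# Sections of coverings over a family of punctured planes

`T` a connected space which is locally contractible (in a strong sense), `a i : T → ℂ` finitely many
continuous functions with pairwise distinct values, `X = {(t, z) | z ≠ a i t}`.  For coverings
`W → E → X` a section of `W → E` over one fibre `t = t₁` extends (uniquely) to a global section, once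
the section is prescribed continuously over the constant section `z = z₀`.
-/

set_option autoImplicit false

namespace Groth.Agent.An.H880.Family

open Topology unitInterval Set

/-- A strong form of local contractibility. -/
def LC (T : Type*) [TopologicalSpace T] : Prop :=
  ∀ (t₀ : T) (U : Set T), U ∈ 𝓝 t₀ → ∃ V : Set T, IsOpen V ∧ t₀ ∈ V ∧ V ⊆ U ∧
    ∀ t₁ : V, ∃ H : C(I × V, V), (∀ v, H (0, v) = v) ∧ (∀ v, H (1, v) = t₁) ∧
      ∀ s, H (s, t₁) = t₁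

section bump

variable {r : ℕ}

/-- the moving map `z ↦ z + ∑ bump_i(z) (b i - a i)` -/
noncomputable def mv (R : ℝ) (a b : Fin r → ℂ) (z : ℂ) : ℂ :=
  z + ∑ i, ((max 0 (1 - ‖z - a i‖ / R) : ℝ) : ℂ) * (b i - a i)

lemma mv_self (R : ℝ) (a : Fin r → ℂ) (z : ℂ) : mv R a a z = z := by
  simp [mv]

lemma mv_center {R : ℝ} (hR : 0 < R) (a b : Fin r → ℂ) (ha : ∀ i j, i ≠ j → R ≤ ‖a i - a j‖)
    (i : Fin r) : mv R a b (a i) = b i := by
  unfold mv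
  rw [Finset.sum_eq_single i]
  · simp
  · intro j _ hj
    have h1 : max 0 (1 - ‖a i - a j‖ / R) = 0 := by
      apply max_eq_left
      have := ha i j (Ne.symm hj)
      rw [sub_nonpos, le_div_iff₀ hR]
      linarith
    rw [h1]
    simp
  · simp

lemma bump_lip {R : ℝ} (hR : 0 < R) (c z w : ℂ) :
    |max 0 (1 - ‖z - c‖ / R) - max 0 (1 - ‖w - c‖ / R)| ≤ ‖z - w‖ / R := by
  have h1 : |max 0 (1 - ‖z - c‖ / R) - max 0 (1 - ‖w - c‖ / R)| ≤
      |(1 - ‖z - c‖ / R) - (1 - ‖w - c‖ / R)| := by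
    have := abs_max_sub_max_le_abs (1 - ‖z - c‖ / R) (1 - ‖w - c‖ / R) 0
    rwa [max_comm (0 : ℝ), max_comm (0 : ℝ)]
  refine h1.trans ?_
  have h2 : (1 - ‖z - c‖ / R) - (1 - ‖w - c‖ / R) = (‖w - c‖ - ‖z - c‖) / R := by ring
  rw [h2, abs_div, abs_of_pos hR]
  gcongr
  have h3 := abs_norm_sub_norm_le (w - c) (z - c)
  have h4 : w - c - (z - c) = -(z - w) := by ring
  rwa [h4, norm_neg] at h3

lemma mv_ne {R δ : ℝ} (hR : 0 < R) (_ : 0 ≤ δ) (hδR : r * δ < R) (a b : Fin r → ℂ)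
    (ha : ∀ i j, i ≠ j → R ≤ ‖a i - a j‖) (hab : ∀ i, ‖b i - a i‖ ≤ δ) (z : ℂ)
    (hz : ∀ i, z ≠ a i) (i : Fin r) : mv R a b z ≠ b i := by
  intro h
  rw [← mv_center hR a b ha i] at h
  have h1 : z - a i = - ∑ j, (((max 0 (1 - ‖z - a j‖ / R) : ℝ) : ℂ) -
      ((max 0 (1 - ‖a i - a j‖ / R) : ℝ) : ℂ)) * (b j - a j) := by
    simp only [sub_mul, Finset.sum_sub_distrib]
    unfold mv at h
    linear_combination h
  have h2 : ‖z - a i‖ ≤ ∑ j : Fin r, ‖z - a i‖ / R * δ := by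
    conv_lhs => rw [h1, norm_neg]
    refine (norm_sum_le _ _).trans (Finset.sum_le_sum fun j _ => ?_)
    rw [norm_mul, ← Complex.ofReal_sub, Complex.norm_real, Real.norm_eq_abs]
    exact mul_le_mul (bump_lip hR _ _ _) (hab j) (norm_nonneg _) (by positivity)
  rw [Finset.sum_const, Finset.card_univ, Fintype.card_fin, nsmul_eq_mul] at h2
  have hpos : 0 < ‖z - a i‖ := norm_pos_iff.2 (sub_ne_zero.2 (hz i))
  have h3 : (r : ℝ) * (‖z - a i‖ / R * δ) = ‖z - a i‖ * (r * δ / R) := by ring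
  rw [h3] at h2
  have h4 : r * δ / R < 1 := by rwa [div_lt_one hR]
  nlinarith

lemma continuous_mv {A : Type*} [TopologicalSpace A] (R : ℝ) {a b : A → Fin r → ℂ}
    {z : A → ℂ} (ha : Continuous a) (hb : Continuous b) (hz : Continuous z) :
    Continuous fun x => mv R (a x) (b x) (z x) := by
  unfold mv
  fun_prop

end bump

variable {T E W : Type*} [TopologicalSpace T] [TopologicalSpace E] [TopologicalSpace W]
  {r : ℕ} (a : Fin r → T → ℂ)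

/-- the family of punctured planes -/
abbrev XX : Type _ := {x : T × ℂ // ∀ i, x.2 ≠ a i x.1}

lemma joinedIn_slice (t : T) (x y : XX a) (hx : x.1.1 = t) (hy : y.1.1 = t) :
    JoinedIn {x : XX a | x.1.1 = t} x y := by
  have h1 : IsPathConnected (Set.range (fun i => a i t))ᶜ :=
    (Set.finite_range _).countable.isPathConnected_compl_of_one_lt_rank (by
      rw [Complex.rank_real_complex]; norm_num)
  have hmem : ∀ z : ℂ, z ∈ (Set.range (fun i => a i t))ᶜ → ∀ i, z ≠ a i t := by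
    intro z hz i h
    exact hz ⟨i, h.symm⟩
  have hx2 : x.1.2 ∈ (Set.range (fun i => a i t))ᶜ := by
    rintro ⟨i, hi⟩
    exact x.2 i (by rw [hx]; exact hi.symm)
  have hy2 : y.1.2 ∈ (Set.range (fun i => a i t))ᶜ := by
    rintro ⟨i, hi⟩
    exact y.2 i (by rw [hy]; exact hi.symm)
  obtain ⟨γ, hγ⟩ := h1.joinedIn _ hx2 _ hy2
  refine ⟨⟨⟨fun s => ⟨(t, γ s), hmem _ (hγ s)⟩, by fun_prop⟩, ?_, ?_⟩, fun s => rfl⟩
  · apply Subtype.ext
    simp [hx.symm]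
  · apply Subtype.ext
    simp [hy.symm]


/-- good neighbourhoods in the base -/
lemma exists_nhd (hT : LC T) (ha : ∀ i, Continuous (a i)) (hinj : ∀ t i j, i ≠ j → a i t ≠ a j t)
    (t₀ : T) : ∃ (V : Set T) (R δ : ℝ), IsOpen V ∧ t₀ ∈ V ∧ 0 < R ∧ 0 ≤ δ ∧ r * δ < R ∧
      (∀ t ∈ V, ∀ i j, i ≠ j → R ≤ ‖a i t - a j t‖) ∧
      (∀ t ∈ V, ∀ t' ∈ V, ∀ i, ‖a i t' - a i t‖ ≤ δ) ∧
      ∀ t₁ : V, ∃ H : C(I × V, V), (∀ v, H (0, v) = v) ∧ (∀ v, H (1, v) = t₁) ∧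
        ∀ s, H (s, t₁) = t₁ := by
  classical
  -- the minimal distance
  obtain ⟨R, hR, hR2⟩ : ∃ R : ℝ, 0 < R ∧ ∀ i j, i ≠ j → 2 * R ≤ ‖a i t₀ - a j t₀‖ := by
    have h1 : ∀ᶠ R in 𝓝[>] (0 : ℝ), ∀ i j, i ≠ j → 2 * R ≤ ‖a i t₀ - a j t₀‖ := by
      refine Filter.eventually_all.2 fun i => Filter.eventually_all.2 fun j => ?_
      by_cases hij : i = j
      · exact Filter.Eventually.of_forall fun _ h => absurd hij h
      · have hpos : 0 < ‖a i t₀ - a j t₀‖ / 2 := by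
          have := norm_pos_iff.2 (sub_ne_zero.2 (hinj t₀ i j hij))
          positivity
        have h2 : ∀ᶠ R in 𝓝[>] (0 : ℝ), R < ‖a i t₀ - a j t₀‖ / 2 :=
          (gt_mem_nhds hpos).filter_mono nhdsWithin_le_nhds
        filter_upwards [h2] with R hR _
        linarith
    obtain ⟨R, h, hR⟩ := (h1.and self_mem_nhdsWithin).exists
    exact ⟨R, hR, h⟩
  set δ : ℝ := R / (2 * (r + 1)) with hδ
  have hδ0 : 0 < δ := by positivity
  have hrδ : r * δ < R := by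
    rw [hδ, mul_div_assoc', div_lt_iff₀ (by positivity)]
    nlinarith
  have hδR : δ ≤ R / 2 := by
    rw [hδ]
    gcongr
    have : (0 : ℝ) ≤ r := by positivity
    linarith
  have hU : {t | ∀ i, ‖a i t - a i t₀‖ < δ / 2} ∈ 𝓝 t₀ := by
    have : ∀ᶠ t in 𝓝 t₀, ∀ i, ‖a i t - a i t₀‖ < δ / 2 := by
      refine Filter.eventually_all.2 fun i => ?_
      have h3 := Metric.tendsto_nhds.1 ((ha i).continuousAt (x := t₀)).tendsto (δ / 2) (by positivity : 0 < δ / 2)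
      filter_upwards [h3] with t ht
      rwa [dist_eq_norm] at ht
    exact this
  obtain ⟨V, hVo, hV0, hVU, hH⟩ := hT t₀ _ hU
  refine ⟨V, R, δ, hVo, hV0, hR, hδ0.le, hrδ, ?_, ?_, hH⟩
  · intro t ht i j hij
    have h1 := hVU ht i
    have h2 := hVU ht j
    have h3 := hR2 i j hij
    have h4 : a i t₀ - a j t₀ = (a i t - a j t) - (a i t - a i t₀) + (a j t - a j t₀) := by ring
    have h5 : ‖a i t₀ - a j t₀‖ ≤ ‖a i t - a j t‖ + ‖a i t - a i t₀‖ + ‖a j t - a j t₀‖ := by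
      rw [h4]
      exact (norm_add_le _ _).trans (add_le_add_left (norm_sub_le _ _) _)
    linarith
  · intro t ht t' ht' i
    have h1 := hVU ht i
    have h2 := hVU ht' i
    have h4 : a i t' - a i t = (a i t' - a i t₀) - (a i t - a i t₀) := by ring
    rw [h4]
    exact (norm_sub_le _ _).trans (by linarith)

/-- the deformation retraction of the family over `V` to a fibre -/
lemma exists_retraction (ha : ∀ i, Continuous (a i)) {V : Set T} {R δ : ℝ} (hR : 0 < R)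
    (hδ : 0 ≤ δ) (hrδ : r * δ < R) (hVR : ∀ t ∈ V, ∀ i j, i ≠ j → R ≤ ‖a i t - a j t‖)
    (hVδ : ∀ t ∈ V, ∀ t' ∈ V, ∀ i, ‖a i t' - a i t‖ ≤ δ) (t₁ : V) (H : C(I × V, V))
    (H0 : ∀ v, H (0, v) = v) (H1 : ∀ v, H (1, v) = t₁) (Hs : ∀ s, H (s, t₁) = t₁) :
    ∃ K : C(I × {x : XX a | x.1.1 ∈ V}, {x : XX a | x.1.1 ∈ V}), (∀ x, K (0, x) = x) ∧
      (∀ x, (K (1, x) : XX a) ∈ {x : XX a | x.1.1 = t₁}) ∧
      ∀ (s : I) (x : {x : XX a | x.1.1 ∈ V}), (x : XX a) ∈ {x : XX a | x.1.1 = t₁} →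
        K (s, x) = x := by
  let tv : {x : XX a | x.1.1 ∈ V} → V := fun x => ⟨x.1.1.1, x.2⟩
  have htv : Continuous tv := by fun_prop
  let A : T → Fin r → ℂ := fun t i => a i t
  have hA : Continuous A := continuous_pi ha
  let K0 : I × {x : XX a | x.1.1 ∈ V} → T × ℂ := fun p =>
    ((H (p.1, tv p.2) : T), mv R (A (tv p.2)) (A (H (p.1, tv p.2))) p.2.1.1.2)
  have hK0 : Continuous K0 := by
    refine Continuous.prodMk (by fun_prop) (continuous_mv R ?_ ?_ ?_)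
    · exact hA.comp (by fun_prop)
    · exact hA.comp (by fun_prop)
    · fun_prop
  have hK0ne : ∀ p i, (K0 p).2 ≠ a i (K0 p).1 := by
    intro p i
    exact mv_ne hR hδ hrδ (A (tv p.2)) (A (H (p.1, tv p.2))) (hVR _ p.2.2)
      (hVδ _ p.2.2 _ (H (p.1, tv p.2)).2) _ (fun j => p.2.1.2 j) i
  refine ⟨⟨fun p => ⟨⟨K0 p, hK0ne p⟩, (H (p.1, tv p.2)).2⟩, by fun_prop⟩, ?_, ?_, ?_⟩
  · intro x
    apply Subtype.ext
    apply Subtype.ext
    change ((H (0, tv x) : T), mv R (A (tv x)) (A (H (0, tv x))) x.1.1.2) = x.1.1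
    rw [H0, mv_self]
  · intro x
    change (H (1, tv x) : T) = t₁
    rw [H1]
  · intro s x hx
    have h1 : tv x = t₁ := Subtype.ext hx
    apply Subtype.ext
    apply Subtype.ext
    change ((H (s, tv x) : T), mv R (A (tv x)) (A (H (s, tv x))) x.1.1.2) = x.1.1
    rw [h1, Hs, mv_self, ← h1]

/-- **Local extension**. -/
theorem exists_local (hT : LC T) (ha : ∀ i, Continuous (a i))
    (hinj : ∀ t i j, i ≠ j → a i t ≠ a j t) (z₀ : ℂ) (hz₀ : ∀ t i, z₀ ≠ a i t)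
    {π : E → XX a} (hπ : IsCoveringMap π) {ϖ : W → E} (hϖ : IsCoveringMap ϖ)
    (τ : E → W) (hτc : ContinuousOn τ {e | (π e).1.2 = z₀})
    (hτ : ∀ e, (π e).1.2 = z₀ → ϖ (τ e) = e) (t₀ : T) :
    ∃ V : Set T, IsOpen V ∧ t₀ ∈ V ∧ ∀ t₁ ∈ V, ∀ F₁ : E → W,
      ContinuousOn F₁ {e | (π e).1.1 = t₁} → (∀ e, (π e).1.1 = t₁ → ϖ (F₁ e) = e) →
      (∀ e, (π e).1.1 = t₁ → (π e).1.2 = z₀ → F₁ e = τ e) →
      ∃ F : E → W, ContinuousOn F {e | (π e).1.1 ∈ V} ∧ (∀ e, (π e).1.1 ∈ V → ϖ (F e) = e) ∧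
        (∀ e, (π e).1.1 ∈ V → (π e).1.2 = z₀ → F e = τ e) ∧
        ∀ e, (π e).1.1 = t₁ → F e = F₁ e := by
  obtain ⟨V, R, δ, hVo, hV0, hR, hδ, hrδ, hVR, hVδ, hH⟩ := exists_nhd a hT ha hinj t₀
  refine ⟨V, hVo, hV0, ?_⟩
  intro t₁ ht₁ F₁ hF₁c hF₁ hF₁τ
  obtain ⟨H, H0, H1, Hs⟩ := hH ⟨t₁, ht₁⟩
  obtain ⟨K, K0, K1, Ks⟩ := exists_retraction a ha hR hδ hrδ hVR hVδ ⟨t₁, ht₁⟩ H H0 H1 Hs
  obtain ⟨F, hFc, hFs, hF1⟩ := SectExt.exists_section_ext hπ hϖ {x : XX a | x.1.1 ∈ V}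
    {x : XX a | x.1.1 = t₁} K K0 K1 Ks F₁ hF₁c hF₁
  have hF1' : ∀ e, (π e).1.1 = t₁ → F e = F₁ e := fun e he =>
    hF1 e (show (π e).1.1 ∈ V by rw [he]; exact ht₁) he
  refine ⟨F, hFc, hFs, ?_, hF1'⟩
  intro e he he0
  refine SectExt.section_unique hπ hϖ {x : XX a | x.1.1 ∈ V ∧ x.1.2 = z₀} F τ
    (hFc.mono fun e h => h.1) (hτc.mono fun e h => h.2) (fun e h => hFs e h.1)
    (fun e h => hτ e h.2) ⟨(t₁, z₀), fun i => hz₀ t₁ i⟩ ?_ e ?_
  · intro e' he'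
    have h1 : (π e').1.1 = t₁ := by rw [he']
    have h2 : (π e').1.2 = z₀ := by rw [he']
    rw [hF1' e' h1, hF₁τ e' h1 h2]
  · -- the path `s ↦ (H(s,t), z₀)`
    have hmem : ∀ t : T, ∀ i, z₀ ≠ a i t := hz₀
    refine ⟨⟨⟨fun s => ⟨((H (s, ⟨(π e).1.1, he⟩) : T), z₀), hmem _⟩, by fun_prop⟩, ?_, ?_⟩, ?_⟩
    · apply Subtype.ext
      change ((H (0, ⟨(π e).1.1, he⟩) : T), z₀) = (π e).1
      rw [H0, ← he0]
    · apply Subtype.ext
      change ((H (1, ⟨(π e).1.1, he⟩) : T), z₀) = (t₁, z₀)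
      rw [H1]
    · intro s
      exact ⟨(H (s, ⟨(π e).1.1, he⟩)).2, rfl⟩

/-- uniqueness over a slice -/
lemma unique_slice (z₀ : ℂ) (hz₀ : ∀ t i, z₀ ≠ a i t)
    {π : E → XX a} (hπ : IsCoveringMap π) {ϖ : W → E} (hϖ : IsCoveringMap ϖ)
    (τ : E → W) (t : T) (F F' : E → W) (hF : ContinuousOn F {e | (π e).1.1 = t})
    (hF' : ContinuousOn F' {e | (π e).1.1 = t}) (hFs : ∀ e, (π e).1.1 = t → ϖ (F e) = e)
    (hFs' : ∀ e, (π e).1.1 = t → ϖ (F' e) = e)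
    (hFτ : ∀ e, (π e).1.1 = t → (π e).1.2 = z₀ → F e = τ e)
    (hFτ' : ∀ e, (π e).1.1 = t → (π e).1.2 = z₀ → F' e = τ e) (e : E) (he : (π e).1.1 = t) :
    F e = F' e := by
  refine SectExt.section_unique hπ hϖ {x : XX a | x.1.1 = t} F F' hF hF' hFs hFs'
    ⟨(t, z₀), fun i => hz₀ t i⟩ ?_ e (joinedIn_slice a t _ _ he rfl)
  intro e' he'
  have h1 : (π e').1.1 = t := by rw [he']
  have h2 : (π e').1.2 = z₀ := by rw [he']
  rw [hFτ e' h1 h2, hFτ' e' h1 h2]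

/-- **Sections over one fibre extend to global sections.** -/
theorem exists_global [PreconnectedSpace T] (hT : LC T) (ha : ∀ i, Continuous (a i))
    (hinj : ∀ t i j, i ≠ j → a i t ≠ a j t) (z₀ : ℂ) (hz₀ : ∀ t i, z₀ ≠ a i t)
    {π : E → XX a} (hπ : IsCoveringMap π) {ϖ : W → E} (hϖ : IsCoveringMap ϖ)
    (τ : E → W) (hτc : ContinuousOn τ {e | (π e).1.2 = z₀})
    (hτ : ∀ e, (π e).1.2 = z₀ → ϖ (τ e) = e) (t₁ : T) (F₁ : E → W)
    (hF₁c : ContinuousOn F₁ {e | (π e).1.1 = t₁}) (hF₁ : ∀ e, (π e).1.1 = t₁ → ϖ (F₁ e) = e)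
    (hF₁τ : ∀ e, (π e).1.1 = t₁ → (π e).1.2 = z₀ → F₁ e = τ e) :
    ∃ F : E → W, Continuous F ∧ (∀ e, ϖ (F e) = e) ∧ ∀ e, (π e).1.2 = z₀ → F e = τ e := by
  classical
  let G : Set T := {t | ∃ F : E → W, ContinuousOn F {e | (π e).1.1 = t} ∧
    (∀ e, (π e).1.1 = t → ϖ (F e) = e) ∧ ∀ e, (π e).1.1 = t → (π e).1.2 = z₀ → F e = τ e}
  have hloc := exists_local a hT ha hinj z₀ hz₀ hπ hϖ τ hτc hτ
  have hstep : ∀ t₀, ∃ V : Set T, IsOpen V ∧ t₀ ∈ V ∧ ∀ t ∈ V, t ∈ G → V ⊆ G := by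
    intro t₀
    obtain ⟨V, hVo, hV0, hV⟩ := hloc t₀
    refine ⟨V, hVo, hV0, ?_⟩
    rintro t ht ⟨F', hc, hs, hτ'⟩ t' ht'
    obtain ⟨F, hFc, hFs, hFτ, -⟩ := hV t ht F' hc hs hτ'
    exact ⟨F, hFc.mono fun e he => by rw [mem_ofPred_eq] at he ⊢; rw [he]; exact ht',
      fun e he => hFs e (by rw [he]; exact ht'), fun e he => hFτ e (by rw [he]; exact ht')⟩
  have hclopen : IsClopen G := by
    constructor
    · rw [← isOpen_compl_iff, isOpen_iff_forall_mem_open]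
      intro t₀ ht₀
      obtain ⟨V, hVo, hV0, hV⟩ := hstep t₀
      exact ⟨V, fun t ht htG => ht₀ (hV t ht htG hV0), hVo, hV0⟩
    · rw [isOpen_iff_forall_mem_open]
      intro t₀ ht₀
      obtain ⟨V, hVo, hV0, hV⟩ := hstep t₀
      exact ⟨V, hV t₀ hV0 ht₀, hVo, hV0⟩
  have hG : ∀ t, t ∈ G := by
    have h1 : G = univ := hclopen.eq_univ ⟨t₁, F₁, hF₁c, hF₁, hF₁τ⟩
    intro t
    rw [h1]
    trivial
  choose Ft hFtc hFts hFtτ using hG
  refine ⟨fun e => Ft (π e).1.1 e, ?_, fun e => hFts _ e rfl, fun e he => hFtτ _ e rfl he⟩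
  rw [continuous_iff_continuousAt]
  intro e₀
  obtain ⟨V, hVo, hV0, hV⟩ := hloc (π e₀).1.1
  obtain ⟨F, hFc, hFs, hFτ, -⟩ := hV _ hV0 (Ft (π e₀).1.1) (hFtc _) (hFts _) (hFtτ _)
  have hopen : IsOpen {e | (π e).1.1 ∈ V} := by
    have := hπ.continuous
    exact hVo.preimage (by fun_prop)
  have h2 : ContinuousAt F e₀ := hFc.continuousAt (hopen.mem_nhds hV0)
  refine h2.congr ?_
  filter_upwards [hopen.mem_nhds hV0] with e he
  refine unique_slice a z₀ hz₀ hπ hϖ τ (π e).1.1 F (Ft (π e).1.1) (hFc.mono ?_) (hFtc _) ?_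
    (hFts _) ?_ (hFtτ _) e rfl
  · intro e' he'
    rw [mem_ofPred_eq] at he' ⊢
    rw [he']
    exact he
  · intro e' he'
    exact hFs e' (by rw [he']; exact he)
  · intro e' he'
    exact hFτ e' (by rw [he']; exact he)

end Groth.Agent.An.H880.Family
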