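import Groth.Agent.An.H880.FamPts
import Groth.Agent.An.H170.Multi

/-!
# Root functions on the covering, with coefficients in a multisection of the parameter space
-/

set_option autoImplicit false

namespace Groth.Agent.An.H880.HData

open MvPolynomial Topology Set Groth.Agent.An.H880.Fam Groth.Agent.An.H880.CoreDef
open Groth.Agent.An.H869.LocalRoots (F continuous_F)
open Groth.Agent.An.H880.FamPts (WW)

variable {E : Type} [TopologicalSpace E] {n : ℕ}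

/-- values of the polynomial of a good family member at `z = z₀` -/
lemma fam_eq_of_good {m N : ℕ} (p : E → (Fin (n + 1) → ℂ))
    (hfin : ∀ x, (p ⁻¹' {x}).Finite) (z₀ : ℂ) (s : E → ℂ)
    (b : Fin n → ℂ) (c : Fin (m * (N + 1)) → ℂ) (gb : Polynomial ℂ) (hgb : gb.Monic)
    (hd : gb.natDegree = m) (hgs : gb.Separable)
    (hg : gb = ∏ e ∈ (hfin (Fin.cons z₀ b)).toFinset, (Polynomial.X - Polynomial.C (s e)))
    (hgood : Good p z₀ s m N b c) :
    (fam m N c).map (Polynomial.evalRingHom z₀) = gb := by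
  obtain ⟨G, -, hG2, hG3⟩ := hgood
  have hinj : ∀ x ∈ (hfin (Fin.cons z₀ b)).toFinset, ∀ y ∈ (hfin (Fin.cons z₀ b)).toFinset,
      s x = s y → x = y := by
    rw [hg, Polynomial.separable_prod_X_sub_C_iff'] at hgs
    exact hgs
  have hdvd : gb ∣ (fam m N c).map (Polynomial.evalRingHom z₀) := by
    rw [hg]
    refine Finset.prod_dvd_of_coprime ?_ ?_
    · intro x hx y hy hxy
      exact Polynomial.isCoprime_X_sub_C_of_isUnit_sub
        (isUnit_iff_ne_zero.2 (sub_ne_zero.2 fun h => hxy (hinj x hx y hy h)))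
    · intro e he
      rw [Set.Finite.mem_toFinset, mem_preimage, mem_singleton_iff] at he
      have h1 : Fin.tail (p e) = b := by rw [he, Fin.tail_cons]
      have h0 : p e 0 = z₀ := by rw [he, Fin.cons_zero]
      rw [Polynomial.dvd_iff_isRoot, Polynomial.IsRoot.def, ← hG3 e h1 h0, ← h0]
      exact hG2 e h1
  refine (Polynomial.eq_of_monic_of_dvd_of_natDegree_le hgb ((monic_fam c).map _) hdvd ?_)
  rw [hd, (monic_fam c).natDegree_map, natDegree_fam]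

theorem exists_H (q : MvPolynomial (Fin (n + 1)) ℂ) (p : E → (Fin (n + 1) → ℂ))
    (hcov : IsCoveringMapOn p {x | eval x q ≠ 0}) (hpq : ∀ e, eval (p e) q ≠ 0)
    (hfin : ∀ x, (p ⁻¹' {x}).Finite) (z₀ : ℂ) (q₁ : MvPolynomial (Fin n) ℂ)
    (g : Polynomial (MvPolynomial (Fin n) ℂ)) (s : E → ℂ) (hq₁ : q₁ ≠ 0) (hg : g.Monic)
    (hq01 : ∀ b, eval b q₁ ≠ 0 → eval (Fin.cons z₀ b : Fin (n + 1) → ℂ) q ≠ 0)
    (hsc : ContinuousOn s {e | p e 0 = z₀ ∧ eval (Fin.tail (p e)) q₁ ≠ 0})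
    (hgs : ∀ b, eval b q₁ ≠ 0 → (g.map (eval b)).Separable ∧ g.map (eval b) =
      ∏ e ∈ (hfin (Fin.cons z₀ b)).toFinset, (Polynomial.X - Polynomial.C (s e)))
    (hgood : ∀ b, eval b q₁ ≠ 0 → ∃ (N : ℕ) (c : Fin (g.natDegree * (N + 1)) → ℂ),
      Good p z₀ s g.natDegree N b c) (hm0 : g.natDegree ≠ 0) :
    ∃ (N : ℕ) (q₂ : MvPolynomial (Fin n) ℂ) (μ : Polynomial (MvPolynomial (Fin n) ℂ))
      (q₃ : MvPolynomial (Fin (n + 1)) ℂ)
      (gc : Fin (g.natDegree * (N + 1)) → Polynomial (MvPolynomial (Fin n) ℂ))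
      (ec : Fin (g.natDegree * (N + 1)) → ℕ) (H : E × ℂ → ℂ),
      q₂ ≠ 0 ∧
      (∀ b, eval b q₂ ≠ 0 → eval (Fin.cons z₀ b : Fin (n + 1) → ℂ) q ≠ 0) ∧
      (∀ b, eval b q₂ ≠ 0 → (hfin (Fin.cons z₀ b)).toFinset.card = g.natDegree) ∧
      (∀ b, eval b q₂ ≠ 0 → Set.InjOn s (p ⁻¹' {Fin.cons z₀ b})) ∧
      μ.Monic ∧ μ.natDegree ≠ 0 ∧ (∀ b, eval b q₂ ≠ 0 → (μ.map (eval b)).Separable) ∧
      (∀ b, eval b q₂ ≠ 0 → eval (Fin.cons z₀ b : Fin (n + 1) → ℂ) q₃ ≠ 0) ∧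
      (∀ x : Fin (n + 1) → ℂ, eval x q₃ ≠ 0 → eval (Fin.tail x) q₂ ≠ 0) ∧
      ContinuousOn H {w : E × ℂ | eval (p w.1) q₃ ≠ 0 ∧ F μ (Fin.tail (p w.1), w.2) = 0} ∧
      (∀ w : E × ℂ, eval (p w.1) q₃ ≠ 0 → F μ (Fin.tail (p w.1), w.2) = 0 →
        ((fam g.natDegree N fun j => F (gc j) (Fin.tail (p w.1), w.2) /
          eval (Fin.tail (p w.1)) q₂ ^ ec j).map
            (Polynomial.evalRingHom (p w.1 0))).Separable) ∧
      (∀ w : E × ℂ, eval (p w.1) q₃ ≠ 0 → F μ (Fin.tail (p w.1), w.2) = 0 →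
        ((fam g.natDegree N fun j => F (gc j) (Fin.tail (p w.1), w.2) /
          eval (Fin.tail (p w.1)) q₂ ^ ec j).map
            (Polynomial.evalRingHom (p w.1 0))).eval (H w) = 0) ∧
      (∀ w : E × ℂ, eval (p w.1) q₃ ≠ 0 → F μ (Fin.tail (p w.1), w.2) = 0 →
        p w.1 0 = z₀ → H w = s w.1) := by
  classical
  have hpc : Continuous p := by
    have e3 : ContinuousOn p {e | eval (p e) q ≠ 0} := hcov.continuousOn
    exact e3.comp_continuous continuous_id hpq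
  obtain ⟨N, hN⟩ := Avoid.exists_N p z₀ s g.natDegree q₁ hq₁ hgood
  obtain ⟨A, _, _, _, _, φ, hφ, c, r, a, h1, h2, h3, h4, h5, h6⟩ :=
    Param.exists_param q q₁ g hg rfl z₀ {x | eval x.1 q₁ ≠ 0 ∧ Good p z₀ s g.natDegree N x.1 x.2} hN
      (fun x hx => hq01 _ hx.1) (fun x hx => hx.1)
      (fun x hx => fam_eq_of_good p hfin z₀ s x.1 x.2 _ (hg.map _) (hg.natDegree_map _)
        (hgs _ hx.1).1 (hgs _ hx.1).2 hx.2) (fun x hx => (hgs _ hx.1).1)
  obtain ⟨f, H₀, hf, hH1, hH2, hH3⟩ := FamPts.exists_H₀ hm0 q p hcov hfin q₁ z₀ s hsc g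
    (fun b hb => (hgs b hb).2) φ c a h1 h2 h3 h4 h5 (fun f hf => by
      obtain ⟨t, ht1, ht2⟩ := h6 f hf
      exact ⟨t, ht1, ht2.2⟩)
  let A' := Localization.Away f
  have hA' : Function.Injective (algebraMap A A') :=
    IsLocalization.injective A' (powers_le_nonZeroDivisors_of_noZeroDivisors hf)
  have : IsDomain A' := IsLocalization.isDomain_localization (powers_le_nonZeroDivisors_of_noZeroDivisors hf)
  have : Algebra.FiniteType A A' := IsLocalization.finiteType_of_monoid_fg (Submonoid.powers f) A'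
  have : Algebra.FiniteType ℂ A' := Algebra.FiniteType.trans (S := A) inferInstance inferInstance
  let ι : A →ₐ[ℂ] A' := IsScalarTower.toAlgHom ℂ A A'
  obtain ⟨q₂, μ, hq₂, hμ, hμ0, hμs, t, ht1, ht2⟩ :=
    H170.Multi.exists_multisection n A' (ι.comp φ) (hA'.comp hφ)
  choose gg ee hge using ht2
  -- the points of `A`
  let T : (Fin n → ℂ) × ℂ → (A →ₐ[ℂ] ℂ) := fun y => (t y).comp ι
  have hTf : ∀ y, T y f ≠ 0 := fun y =>
    ((IsLocalization.Away.algebraMap_isUnit (S := A') f).map (t y)).ne_zero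
  have hTφ : ∀ y, eval y.1 q₂ ≠ 0 → F μ y = 0 → ∀ h, T y (φ h) = eval y.1 h := ht1
  have hTφ' : ∀ y, eval y.1 q₂ ≠ 0 → F μ y = 0 → (fun i => T y (φ (X i))) = y.1 := by
    intro y hy1 hy2
    funext i
    rw [hTφ y hy1 hy2, eval_X]
  have hTa : ∀ (h : A) y, eval y.1 q₂ ≠ 0 → F μ y = 0 →
      T y h = F (gg (ι h)) y / eval y.1 q₂ ^ ee (ι h) := by
    intro h y hy1 hy2
    rw [eq_div_iff (pow_ne_zero _ hy1)]
    exact hge (ι h) y hy1 hy2
  have hroot : ∀ b, eval b q₂ ≠ 0 → ∃ θ, F μ (b, θ) = 0 := by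
    intro b hb
    exact IsAlgClosed.exists_root (μ.map (eval b)) (by
      rw [Polynomial.degree_eq_natDegree (hμ.map _).ne_zero, hμ.natDegree_map]
      exact_mod_cast hμ0)
  have hq12 : ∀ b, eval b q₂ ≠ 0 → eval b q₁ ≠ 0 := by
    intro b hb
    obtain ⟨θ, hθ⟩ := hroot b hb
    have := h3 (T (b, θ))
    rwa [hTφ' (b, θ) hb hθ] at this
  -- the polynomial `q₃`
  let Q₂ : MvPolynomial (Fin (n + 1)) ℂ := rename Fin.succ q₂
  have hQ₂ : ∀ x : Fin (n + 1) → ℂ, eval x Q₂ = eval (Fin.tail x) q₂ := by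
    intro x
    rw [eval_rename]
    rfl
  let M : Polynomial (MvPolynomial (Fin (n + 1)) ℂ) :=
    μ.map (rename Fin.succ : MvPolynomial (Fin n) ℂ →ₐ[ℂ] MvPolynomial (Fin (n + 1)) ℂ).toRingHom
  have hMm : M.Monic := hμ.map _
  have hmap : ∀ (P : Polynomial (MvPolynomial (Fin n) ℂ)) (x : Fin (n + 1) → ℂ),
      (P.map (rename Fin.succ : MvPolynomial (Fin n) ℂ →ₐ[ℂ] MvPolynomial (Fin (n + 1)) ℂ).toRingHom).map
        (eval x) = P.map (eval (Fin.tail x)) := by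
    intro P x
    rw [Polynomial.map_map]
    congr 1
    refine RingHom.ext fun h => ?_
    change eval x (rename Fin.succ h) = _
    rw [eval_rename]
    rfl
  let L : Fin r → Polynomial (MvPolynomial (Fin (n + 1)) ℂ) := fun i =>
    Polynomial.C (Q₂ ^ ee (ι (a i)) * X 0) - (gg (ι (a i))).map
      (rename Fin.succ : MvPolynomial (Fin n) ℂ →ₐ[ℂ] MvPolynomial (Fin (n + 1)) ℂ).toRingHom
  let q₃ : MvPolynomial (Fin (n + 1)) ℂ :=
    Q₂ * ∏ i, Polynomial.resultant M (L i) M.natDegree (L i).natDegree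
  have hq₃ : ∀ x : Fin (n + 1) → ℂ, eval x q₃ ≠ 0 ↔ eval (Fin.tail x) q₂ ≠ 0 ∧
      ∀ i, ∀ θ, F μ (Fin.tail x, θ) = 0 → x 0 ≠ T (Fin.tail x, θ) (a i) := by
    intro x
    rw [map_mul, mul_ne_zero_iff, hQ₂, map_prod, Finset.prod_ne_zero_iff]
    refine and_congr_right fun hx => ?_
    refine forall_congr' fun i => ?_
    simp only [Finset.mem_univ, forall_true_left]
    rw [Avoid.resultant_ne_zero_iff (eval x) M (L i) hMm, hmap]
    refine forall_congr' fun θ => ?_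
    refine imp_congr_right fun hθ => ?_
    have e1 : ((L i).map (eval x)).eval θ =
        eval (Fin.tail x) q₂ ^ ee (ι (a i)) * x 0 - F (gg (ι (a i))) (Fin.tail x, θ) := by
      rw [Polynomial.map_sub, hmap, Polynomial.map_C, Polynomial.eval_sub, Polynomial.eval_C,
        map_mul, map_pow, hQ₂, eval_X]
      rfl
    rw [e1, sub_ne_zero, hTa (a i) (Fin.tail x, θ) hx hθ, ne_eq, ne_eq, not_iff_not,
      eq_div_iff (pow_ne_zero _ hx), mul_comm]
  -- membership in `WW`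
  have hWW : ∀ w : E × ℂ, eval (p w.1) q₃ ≠ 0 → F μ (Fin.tail (p w.1), w.2) = 0 →
      (T (Fin.tail (p w.1), w.2), w.1) ∈ WW φ a p := by
    intro w hw hw'
    have e1 := (hq₃ _).1 hw
    exact ⟨(hTφ' (Fin.tail (p w.1), w.2) e1.1 hw').symm, fun i => e1.2 i _ hw'⟩
  have hcc : ∀ w : E × ℂ, eval (p w.1) q₃ ≠ 0 → F μ (Fin.tail (p w.1), w.2) = 0 →
      (fun j => F (gg (ι (c j))) (Fin.tail (p w.1), w.2) /
        eval (Fin.tail (p w.1)) q₂ ^ ee (ι (c j))) =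
      fun j => T (Fin.tail (p w.1), w.2) (c j) := by
    intro w hw hw'
    funext j
    rw [hTa (c j) (Fin.tail (p w.1), w.2) ((hq₃ _).1 hw).1 hw']
  refine ⟨N, q₂, μ, q₃, fun j => gg (ι (c j)), fun j => ee (ι (c j)),
    fun w => H₀ (T (Fin.tail (p w.1), w.2), w.1), hq₂, fun b hb => hq01 b (hq12 b hb), ?_, ?_,
    hμ, hμ0, hμs, ?_, fun x hx => ((hq₃ x).1 hx).1, ?_, ?_, ?_, ?_⟩
  · intro b hb
    have e1 := (hgs b (hq12 b hb)).2
    have e2 := congrArg Polynomial.natDegree e1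
    rw [hg.natDegree_map, Polynomial.natDegree_finsetProd_X_sub_C_eq_card] at e2
    exact e2.symm
  · intro b hb x hx y hy hxy
    have e1 := (hgs b (hq12 b hb)).1
    rw [(hgs b (hq12 b hb)).2, Polynomial.separable_prod_X_sub_C_iff'] at e1
    exact e1 x ((Set.Finite.mem_toFinset _).2 hx) y ((Set.Finite.mem_toFinset _).2 hy) hxy
  · intro b hb
    rw [hq₃, Fin.tail_cons, Fin.cons_zero]
    exact ⟨hb, fun i θ _ => h2 _ i⟩
  · rw [continuousOn_iff_continuous_domRestrict]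
    have htc : Continuous fun w : {w : E × ℂ | eval (p w.1) q₃ ≠ 0 ∧
        F μ (Fin.tail (p w.1), w.2) = 0} => ((Fin.tail (p w.1.1), w.1.2) : (Fin n → ℂ) × ℂ) := by
      refine Continuous.prodMk ?_ (by fun_prop)
      refine continuous_pi fun i => ?_
      exact (continuous_apply (Fin.succ i)).comp (hpc.comp (by fun_prop))
    refine hH1 {w : E × ℂ | eval (p w.1) q₃ ≠ 0 ∧ F μ (Fin.tail (p w.1), w.2) = 0}
      (fun w => (T (Fin.tail (p w.1.1), w.1.2), w.1.1)) ?_ (by fun_prop)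
      (fun w => ⟨hWW w.1 w.2.1 w.2.2, hTf _⟩)
    intro h
    have e1 : (fun w : {w : E × ℂ | eval (p w.1) q₃ ≠ 0 ∧ F μ (Fin.tail (p w.1), w.2) = 0} =>
        T (Fin.tail (p w.1.1), w.1.2) h) = fun w =>
          F (gg (ι h)) (Fin.tail (p w.1.1), w.1.2) / eval (Fin.tail (p w.1.1)) q₂ ^ ee (ι h) := by
      funext w
      exact hTa h (Fin.tail (p w.1.1), w.1.2) ((hq₃ _).1 w.2.1).1 w.2.2
    change Continuous (fun w : {w : E × ℂ | eval (p w.1) q₃ ≠ 0 ∧ F μ (Fin.tail (p w.1), w.2) = 0} =>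
        T (Fin.tail (p w.1.1), w.1.2) h)
    rw [e1]
    refine Continuous.div ((continuous_F _).comp htc) ?_ (fun w => pow_ne_zero _ ((hq₃ _).1 w.2.1).1)
    refine Continuous.pow ?_ _
    exact (MvPolynomial.continuous_eval q₂).comp (continuous_fst.comp htc)
  · intro w hw hw'
    rw [hcc w hw hw']
    exact (h4 (T (Fin.tail (p w.1), w.2)) (p w.1 0) (fun i => (hWW w hw hw').2 i)).2
  · intro w hw hw'
    rw [hcc w hw hw']
    exact hH2 (T (Fin.tail (p w.1), w.2), w.1) (hWW w hw hw') (hTf _)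
  · intro w hw hw' hw0
    exact hH3 (T (Fin.tail (p w.1), w.2), w.1) (hWW w hw hw') (hTf _) hw0

end Groth.Agent.An.H880.HData
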