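import Groth.Agent.An.H880.Avoid
import Groth.Agent.An.H170.PrimePts
import Groth.Agent.An.H170.Lift
import Groth.Agent.An.H170.Split

/-!
# The parameter space
-/

set_option autoImplicit false

namespace Groth.Agent.An.H880.Param

open MvPolynomial Groth.Agent.An.H880.Fam Groth.Agent.An.H880.CoreDef

variable {n m N : ℕ}

/-- evaluation of `A`-valued data at a complex point of `A` -/
lemma eval_pt {A : Type*} [CommRing A] [Algebra ℂ A] (φ : MvPolynomial (Fin n) ℂ →ₐ[ℂ] A)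
    (t : A →ₐ[ℂ] ℂ) (h : MvPolynomial (Fin n) ℂ) :
    t (φ h) = eval (fun i => t (φ (X i))) h := by
  have : (t.comp φ : MvPolynomial (Fin n) ℂ →ₐ[ℂ] ℂ) = aeval (fun i => t (φ (X i))) := by
    ext i
    simp
  have h2 := congrArg (fun f : MvPolynomial (Fin n) ℂ →ₐ[ℂ] ℂ => f h) this
  simpa [MvPolynomial.coe_aeval_eq_eval] using h2

lemma aeval_eq' {σ : Type*} (x : σ → ℂ) (h : MvPolynomial σ ℂ) : aeval x h = eval x h :=
  congrFun (MvPolynomial.aeval_eq_eval x) h

theorem exists_param (q : MvPolynomial (Fin (n + 1)) ℂ) (q₁ : MvPolynomial (Fin n) ℂ)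
    (g : Polynomial (MvPolynomial (Fin n) ℂ)) (hg : g.Monic) (hgm : g.natDegree = m) (z₀ : ℂ)
    (G : Set ((Fin n → ℂ) × (Fin (m * (N + 1)) → ℂ)))
    (hG : ∀ h : MvPolynomial (Fin n) ℂ, (∀ x ∈ G, eval x.1 h = 0) → h = 0)
    (hG0 : ∀ x ∈ G, eval (Fin.cons z₀ x.1 : Fin (n + 1) → ℂ) q ≠ 0)
    (hG1 : ∀ x ∈ G, eval x.1 q₁ ≠ 0)
    (hGg : ∀ x ∈ G, (fam m N x.2).map (Polynomial.evalRingHom z₀) = g.map (eval x.1))
    (hGs : ∀ x ∈ G, (g.map (eval x.1)).Separable) :
    ∃ (A : Type) (_ : CommRing A) (_ : IsDomain A) (_ : Algebra ℂ A) (_ : Algebra.FiniteType ℂ A)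
      (φ : MvPolynomial (Fin n) ℂ →ₐ[ℂ] A) (_ : Function.Injective φ)
      (c : Fin (m * (N + 1)) → A) (r : ℕ) (a : Fin r → A),
      (∀ (t : A →ₐ[ℂ] ℂ) i j, i ≠ j → t (a i) ≠ t (a j)) ∧
      (∀ (t : A →ₐ[ℂ] ℂ) i, z₀ ≠ t (a i)) ∧
      (∀ t : A →ₐ[ℂ] ℂ, eval (fun i => t (φ (X i))) q₁ ≠ 0) ∧
      (∀ (t : A →ₐ[ℂ] ℂ) (z : ℂ), (∀ i, z ≠ t (a i)) →
        eval (Fin.cons z (fun i => t (φ (X i))) : Fin (n + 1) → ℂ) q ≠ 0 ∧
        ((fam m N (fun j => t (c j))).map (Polynomial.evalRingHom z)).Separable) ∧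
      (∀ t : A →ₐ[ℂ] ℂ, (fam m N (fun j => t (c j))).map (Polynomial.evalRingHom z₀) =
        g.map (eval (fun i => t (φ (X i))))) ∧
      ∀ f : A, f ≠ 0 → ∃ t : A →ₐ[ℂ] ℂ, t f ≠ 0 ∧
        ((fun i => t (φ (X i)), fun j => t (c j)) : (Fin n → ℂ) × (Fin (m * (N + 1)) → ℂ)) ∈ G := by
  classical
  obtain ⟨I, hI, hI1, hI2⟩ := H170.PrimePts.exists_prime n (m * (N + 1)) G hG
  let RN := MvPolynomial (Fin n ⊕ Fin (m * (N + 1))) ℂ
  let R := RN ⧸ I
  let mk : RN →ₐ[ℂ] R := Ideal.Quotient.mkₐ ℂ I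
  have hmk : ∀ h, mk h = 0 ↔ h ∈ I := fun h => Ideal.Quotient.eq_zero_iff_mem
  have hmks : Function.Surjective mk := Ideal.Quotient.mk_surjective
  have : Algebra.FiniteType ℂ R := Algebra.FiniteType.of_surjective mk hmks
  let bR : MvPolynomial (Fin n) ℂ →ₐ[ℂ] R := mk.comp (rename Sum.inl)
  let cR : Fin (m * (N + 1)) → R := fun j => mk (X (Sum.inr j))
  -- points
  let V : Set ((Fin n → ℂ) × (Fin (m * (N + 1)) → ℂ)) :=
    {x | ∀ h ∈ I, eval (Sum.elim x.1 x.2) h = 0}
  have hpt : ∀ x ∈ V, ∃ s : R →ₐ[ℂ] ℂ, ∀ h, s (mk h) = eval (Sum.elim x.1 x.2) h := by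
    intro x hx
    refine ⟨Ideal.Quotient.liftₐ I (aeval (Sum.elim x.1 x.2)) (fun h hh => ?_), fun h => ?_⟩
    · exact (aeval_eq' _ _).trans (hx h hh)
    · change (Ideal.Quotient.liftₐ I (aeval (Sum.elim x.1 x.2)) _) (Ideal.Quotient.mk I h) = _
      rw [Ideal.Quotient.liftₐ_apply, Ideal.Quotient.lift_mk]
      exact aeval_eq' _ _
  have hdense : ∀ w : R, w ≠ 0 → ∃ x ∈ G, ∃ s : R →ₐ[ℂ] ℂ,
      (∀ h, s (mk h) = eval (Sum.elim x.1 x.2) h) ∧ s w ≠ 0 := by
    intro w hw
    obtain ⟨w, rfl⟩ := hmks w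
    have h1 : w ∉ I := fun h => hw ((hmk w).2 h)
    by_contra hcon
    refine h1 (hI2 w fun x hx hxI => ?_)
    by_contra h2
    obtain ⟨s, hs⟩ := hpt x hxI
    exact hcon ⟨x, hx, s, hs, by rwa [hs]⟩
  have hbc : ∀ (x : (Fin n → ℂ) × (Fin (m * (N + 1)) → ℂ)) (s : R →ₐ[ℂ] ℂ),
      (∀ h, s (mk h) = eval (Sum.elim x.1 x.2) h) →
      (fun i => s (bR (X i))) = x.1 ∧ (fun j => s (cR j)) = x.2 := by
    intro x s hs
    refine ⟨funext fun i => ?_, funext fun j => ?_⟩
    · change s (mk (rename Sum.inl (X i))) = x.1 i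
      rw [hs, rename_X, eval_X, Sum.elim_inl]
    · change s (mk (X (Sum.inr j))) = x.2 j
      rw [hs, eval_X, Sum.elim_inr]
  -- the polynomial `Q`
  let Q : Polynomial R := ((finSuccEquiv ℂ n q).map (bR : MvPolynomial (Fin n) ℂ →+* R)) *
    dsc m (fam m N cR) * Polynomial.C (bR q₁)
  have hQ : ∀ (s : R →ₐ[ℂ] ℂ) (z : ℂ), (Q.map (s : R →+* ℂ)).eval z =
      eval (Fin.cons z (fun i => s (bR (X i))) : Fin (n + 1) → ℂ) q *
        dsc m ((fam m N (fun j => s (cR j))).map (Polynomial.evalRingHom z)) *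
        eval (fun i => s (bR (X i))) q₁ := by
    intro s z
    simp only [Q, Polynomial.map_mul, Polynomial.eval_mul, Polynomial.map_C, Polynomial.eval_C]
    congr 1
    · congr 1
      · rw [eval_eq_eval_mv_eval', Polynomial.map_map]
        have h1 : ((s : R →+* ℂ).comp (bR : MvPolynomial (Fin n) ℂ →+* R)) =
            eval (fun i => s (bR (X i))) := RingHom.ext fun h => eval_pt bR s h
        rw [h1]
      · rw [dsc_map, ← Polynomial.coe_evalRingHom]
        have h1 := fam_map (m := m) (N := N) (s : R →+* ℂ) cR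
        have h2 : (fam m N fun j => s (cR j)) = fam m N (fun j => (s : R →+* ℂ) (cR j)) := rfl
        rw [h2, ← h1, dsc_map]
        rfl
    · exact eval_pt bR s q₁
  have hQ0 : Q.eval (algebraMap ℂ R z₀) ≠ 0 := by
    intro h0
    obtain ⟨x, hxG, s, hs, -⟩ := hdense 1 one_ne_zero
    obtain ⟨hb, hc⟩ := hbc x s hs
    have h1 := hQ s z₀
    rw [hb, hc] at h1
    have h2 : (Q.map (s : R →+* ℂ)).eval z₀ = s (Q.eval (algebraMap ℂ R z₀)) := by
      rw [Polynomial.eval_map, Polynomial.eval₂_eq_eval_map]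
      have := Polynomial.eval_map_apply (f := (s : R →+* ℂ)) (p := Q) (algebraMap ℂ R z₀)
      rw [RingHom.coe_coe, AlgHom.commutes] at this
      exact this
    rw [h2, h0, map_zero, hGg x hxG] at h1
    have h3 := (separable_iff (m := m) (g.map (eval x.1)) (hg.map _)
      (by rw [hg.natDegree_map, hgm])).1 (hGs x hxG)
    exact (mul_ne_zero (mul_ne_zero (hG0 x hxG) h3) (hG1 x hxG)) h1.symm
  obtain ⟨A, _, _, _, _, ψ, hψ, r, a, ha, haz, hsplit⟩ := H170.Split.exists_split R Q z₀ hQ0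
  have hbRinj : Function.Injective bR := by
    rw [injective_iff_map_eq_zero]
    intro h hh
    exact hI1 h ((hmk _).1 hh)
  -- the identity at `z₀`
  have hid : ∀ s : R →ₐ[ℂ] ℂ, (fam m N (fun j => s (cR j))).map (Polynomial.evalRingHom z₀) =
      g.map (eval (fun i => s (bR (X i)))) := by
    intro s
    ext k
    let c0 : Fin (m * (N + 1)) → RN := fun j => X (Sum.inr j)
    let hk : RN := ((fam m N c0).map (Polynomial.evalRingHom (C z₀))).coeff k -
      rename Sum.inl (g.coeff k)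
    have hev : ∀ (e : RN →ₐ[ℂ] ℂ), e hk =
        ((fam m N (fun j => e (c0 j))).map (Polynomial.evalRingHom z₀)).coeff k -
          (g.map (eval (fun i => e (X (Sum.inl i))))).coeff k := by
      intro e
      simp only [hk, map_sub]
      congr 1
      · have h2 : (fam m N fun j => e (c0 j)) = fam m N (fun j => (e : RN →+* ℂ) (c0 j)) := rfl
        rw [h2, ← fam_map (e : RN →+* ℂ), Polynomial.map_map, Polynomial.coeff_map,
          Polynomial.coeff_map]
        have h1 : (Polynomial.evalRingHom z₀).comp (Polynomial.mapRingHom (e : RN →+* ℂ)) =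
            (e : RN →+* ℂ).comp (Polynomial.evalRingHom (C z₀)) := by
          refine Polynomial.ringHom_ext (fun x => ?_) ?_
          · simp
          · simp only [RingHom.comp_apply, Polynomial.coe_mapRingHom, Polynomial.map_X,
              Polynomial.coe_evalRingHom, Polynomial.eval_X]
            exact (e.commutes z₀).symm
        rw [h1]
        rfl
      · rw [Polynomial.coeff_map]
        exact eval_pt (rename Sum.inl) e (g.coeff k) |>.trans (by simp)
    have hmem : hk ∈ I := by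
      refine hI2 hk fun x hx _ => ?_
      have h1 := hev (aeval (Sum.elim x.1 x.2))
      have h2 : (fun j => (aeval (Sum.elim x.1 x.2)) (c0 j)) = x.2 := by
        funext j
        simp [c0]
      have h3 : (fun i => (aeval (Sum.elim x.1 x.2)) (X (Sum.inl i) : RN)) = x.1 := by
        funext i
        simp
      rw [h2, h3, hGg x hx, sub_self] at h1
      exact (aeval_eq' _ _).symm.trans h1
    have h1 := hev (s.comp mk)
    rw [AlgHom.comp_apply, (hmk hk).2 hmem, map_zero] at h1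
    have h2 := sub_eq_zero.1 h1.symm
    have h3 : (fun i => s (bR (X i))) = fun i => (s.comp mk) (X (Sum.inl i)) := by
      funext i
      change s (mk (rename Sum.inl (X i))) = s (mk (X (Sum.inl i)))
      rw [rename_X]
    rw [h3]
    exact h2
  refine ⟨A, inferInstance, inferInstance, inferInstance, inferInstance, ψ.comp bR,
    hψ.comp hbRinj, fun j => ψ (cR j), r, a, ?_, ?_, ?_, ?_, ?_, ?_⟩
  · intro t i j hij h
    exact (((ha i j hij).map t).ne_zero) (by rw [map_sub, h, sub_self])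
  · intro t i h
    refine (((haz i).map t).ne_zero) ?_
    rw [map_sub, AlgHom.commutes, ← h]
    exact sub_self _
  · intro t h
    have h1 := hQ (t.comp ψ) z₀
    have h2 : eval (fun i => (t.comp ψ) (bR (X i))) q₁ = 0 := h
    rw [h2, mul_zero] at h1
    obtain ⟨i, hi⟩ := hsplit t z₀ h1
    refine (((haz i).map t).ne_zero) ?_
    rw [map_sub, AlgHom.commutes, ← hi]
    exact sub_self _
  · intro t z hz
    have h1 : (Q.map ((t.comp ψ : R →ₐ[ℂ] ℂ) : R →+* ℂ)).eval z ≠ 0 := by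
      intro h0
      obtain ⟨i, hi⟩ := hsplit t z h0
      exact hz i hi
    rw [hQ] at h1
    refine ⟨left_ne_zero_of_mul (left_ne_zero_of_mul h1), ?_⟩
    refine (separable_iff (m := m) _ ((monic_fam _).map _) ?_).2
      (right_ne_zero_of_mul (left_ne_zero_of_mul h1))
    rw [(monic_fam _).natDegree_map, natDegree_fam]
  · intro t
    exact hid (t.comp ψ)
  · intro f hf
    obtain ⟨w, hw, hlift⟩ := H170.Lift.exists_lift_point R A ψ hψ f hf
    obtain ⟨x, hxG, s, hs, hsw⟩ := hdense w hw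
    obtain ⟨t, ht, htf⟩ := hlift s hsw
    obtain ⟨hb, hc⟩ := hbc x s hs
    refine ⟨t, htf, ?_⟩
    have h1 : (fun i => t ((ψ.comp bR) (X i))) = x.1 := by
      rw [← hb]
      funext i
      exact congrArg (fun f : R →ₐ[ℂ] ℂ => f (bR (X i))) ht
    have h2 : (fun j => t (ψ (cR j))) = x.2 := by
      rw [← hc]
      funext j
      exact congrArg (fun f : R →ₐ[ℂ] ℂ => f (cR j)) ht
    rw [h1, h2]
    exact hxG

end Groth.Agent.An.H880.Param
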