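import Mathlib.Topology.Homotopy.Lifting
import Mathlib.Analysis.Complex.Basic

/-!
# Extending sections of a covering of a covering along a deformation retraction
-/

set_option autoImplicit false

namespace Groth.Agent.An.H880.SectExt

open Topology unitInterval Set

variable {X E W : Type*} [TopologicalSpace X] [TopologicalSpace E] [TopologicalSpace W]

/-- Sections of a covering `ϖ` of a covering `π` extend along a strong deformation retraction of the
base. -/
theorem exists_section_ext {π : E → X} (hπ : IsCoveringMap π) {ϖ : W → E} (hϖ : IsCoveringMap ϖ)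
    (Z Z₁ : Set X) (K : C(I × Z, Z)) (h0 : ∀ x, K (0, x) = x) (h1 : ∀ x, (K (1, x) : X) ∈ Z₁)
    (hs : ∀ (s : I) (x : Z), (x : X) ∈ Z₁ → K (s, x) = x)
    (F₁ : E → W) (hF₁c : ContinuousOn F₁ (π ⁻¹' Z₁)) (hF₁ : ∀ e, π e ∈ Z₁ → ϖ (F₁ e) = e) :
    ∃ F : E → W, ContinuousOn F (π ⁻¹' Z) ∧ (∀ e, π e ∈ Z → ϖ (F e) = e) ∧
      ∀ e, π e ∈ Z → π e ∈ Z₁ → F e = F₁ e := by
  classical
  -- first lift
  let H : C(I × (π ⁻¹' Z), X) :=
    ⟨fun se => (K (se.1, ⟨π se.2, se.2.2⟩) : X), by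
      have := hπ.continuous
      fun_prop⟩
  let f : C(π ⁻¹' Z, E) := ⟨Subtype.val, continuous_subtype_val⟩
  have H0 : ∀ a, H (0, a) = π (f a) := fun a => by
    change (K (0, ⟨π a, a.2⟩) : X) = π a
    rw [h0]
  let Kt : C(I × (π ⁻¹' Z), E) := hπ.liftHomotopy H f H0
  have hKt : ∀ s a, π (Kt (s, a)) = K (s, ⟨π a, a.2⟩) := fun s a =>
    congrFun (hπ.liftHomotopy_lifts H f H0) (s, a)
  have hKt0 : ∀ a, Kt (0, a) = a := fun a => hπ.liftHomotopy_zero H f H0 a
  -- second lift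
  let H' : C(I × (π ⁻¹' Z), E) := ⟨fun se => Kt (σ se.1, se.2), by fun_prop⟩
  let f' : C(π ⁻¹' Z, W) := ⟨fun a => F₁ (Kt (1, a)), by
    refine hF₁c.comp_continuous (by fun_prop) (fun a => ?_)
    rw [mem_preimage, hKt]
    exact h1 _⟩
  have H'0 : ∀ a, H' (0, a) = ϖ (f' a) := fun a => by
    change Kt (σ 0, a) = ϖ (F₁ (Kt (1, a)))
    rw [hF₁ _ (by rw [hKt]; exact h1 _), symm_zero]
  let L : C(I × (π ⁻¹' Z), W) := hϖ.liftHomotopy H' f' H'0
  have hL : ∀ s a, ϖ (L (s, a)) = Kt (σ s, a) := fun s a =>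
    congrFun (hϖ.liftHomotopy_lifts H' f' H'0) (s, a)
  have hL0 : ∀ a, L (0, a) = F₁ (Kt (1, a)) := fun a => hϖ.liftHomotopy_zero H' f' H'0 a
  refine ⟨fun e => if h : π e ∈ Z then L (1, ⟨e, h⟩) else F₁ e, ?_, ?_, ?_⟩
  · rw [continuousOn_iff_continuous_domRestrict]
    have : (π ⁻¹' Z).domRestrict (fun e => if h : π e ∈ Z then L (1, ⟨e, h⟩) else F₁ e) =
        fun a => L (1, a) := by
      ext a
      rw [Set.domRestrict_apply]
      exact dif_pos a.2
    rw [this]
    fun_prop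
  · intro e he
    simp only
    rw [dif_pos he, hL, symm_one, hKt0]
  · intro e he he1
    simp only
    rw [dif_pos he]
    -- over `Z₁` everything is constant
    have hc : ∀ s, Kt (s, ⟨e, he⟩) = e := by
      intro s
      have h2 : (fun s : I => Kt (s, ⟨e, he⟩)) = fun _ => e := by
        refine hπ.eq_of_comp_eq (by fun_prop) continuous_const ?_ 0 (hKt0 _)
        ext s
        simp only [Function.comp_apply]
        rw [hKt, hs s ⟨π e, he⟩ he1]
      exact congrFun h2 s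
    have h3 : (fun s : I => L (s, ⟨e, he⟩)) = fun _ => F₁ e := by
      refine hϖ.eq_of_comp_eq (by fun_prop) continuous_const ?_ 0 ?_
      · ext s
        simp only [Function.comp_apply]
        rw [hL, hc, hF₁ e he1]
      · change L (0, _) = _
        rw [hL0, hc]
    exact congrFun h3 1

/-- Two sections which agree over one point agree along paths. -/
theorem section_unique {π : E → X} (hπ : IsCoveringMap π) {ϖ : W → E} (hϖ : IsCoveringMap ϖ)
    (Z : Set X) (F F' : E → W) (hF : ContinuousOn F (π ⁻¹' Z)) (hF' : ContinuousOn F' (π ⁻¹' Z))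
    (hFs : ∀ e, π e ∈ Z → ϖ (F e) = e) (hFs' : ∀ e, π e ∈ Z → ϖ (F' e) = e)
    (x₀ : X) (h₀ : ∀ e, π e = x₀ → F e = F' e) (e : E) (hj : JoinedIn Z (π e) x₀) :
    F e = F' e := by
  obtain ⟨γ, hγ⟩ := hj
  let Γ : C(I, E) := hπ.liftPath γ e γ.source
  have hΓ : ∀ s, π (Γ s) = γ s := fun s => congrFun (hπ.liftPath_lifts γ e γ.source) s
  have hΓ0 : Γ 0 = e := hπ.liftPath_zero γ e γ.source
  have hmem : ∀ s, Γ s ∈ π ⁻¹' Z := fun s => by
    rw [mem_preimage, hΓ]
    exact hγ s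
  have key : F ∘ Γ = F' ∘ Γ := by
    refine hϖ.eq_of_comp_eq (hF.comp_continuous Γ.continuous hmem)
      (hF'.comp_continuous Γ.continuous hmem) ?_ 1 ?_
    · ext s
      simp only [Function.comp_apply]
      rw [hFs _ (hmem s), hFs' _ (hmem s)]
    · simp only [Function.comp_apply]
      refine h₀ _ ?_
      rw [hΓ]
      exact γ.target
  have := congrFun key 0
  simpa [hΓ0] using this

end Groth.Agent.An.H880.SectExt
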